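import Mathlib.GroupTheory.Perm.Basic
import Mathlib.Data.Fintype.Basic
import Mathlib.Algebra.Group.Subgroup.Defs
import Mathlib.Data.Fintype.Pi
import Mathlib.Tactic

/-!
# Permutations of the projective line over the field of 8 elements
-/

set_option autoImplicit false
set_option maxRecDepth 16000

namespace CfsgLib.TwoTimesAlt.A4.Line

/-- Translation by 1. -/
def Jp : Equiv.Perm (Fin 9) where
  toFun := ![7, 3, 6, 1, 5, 4, 2, 0, 8]
  invFun := ![7, 3, 6, 1, 5, 4, 2, 0, 8]
  left_inv := by unfold Function.LeftInverse; decide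
  right_inv := by unfold Function.RightInverse Function.LeftInverse; decide

/-- Multiplication by a generator. -/
def qp : Equiv.Perm (Fin 9) where
  toFun := ![1, 2, 3, 4, 5, 6, 0, 7, 8]
  invFun := ![6, 0, 1, 2, 3, 4, 5, 7, 8]
  left_inv := by unfold Function.LeftInverse; decide
  right_inv := by unfold Function.RightInverse Function.LeftInverse; decide

/-- The Frobenius map. -/
def cp : Equiv.Perm (Fin 9) where
  toFun := ![0, 2, 4, 6, 1, 3, 5, 7, 8]
  invFun := ![0, 4, 1, 5, 2, 6, 3, 7, 8]
  left_inv := by unfold Function.LeftInverse; decide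
  right_inv := by unfold Function.RightInverse Function.LeftInverse; decide

/-- Inversion. -/
def xp : Equiv.Perm (Fin 9) where
  toFun := ![0, 6, 5, 4, 3, 2, 1, 8, 7]
  invFun := ![0, 6, 5, 4, 3, 2, 1, 8, 7]
  left_inv := by unfold Function.LeftInverse; decide
  right_inv := by unfold Function.RightInverse Function.LeftInverse; decide

/-- Powers of the generator of the field. -/
def expT (i : ℕ) : ℕ := [1, 2, 4, 3, 6, 7, 5].getD (i % 7) 0

/-- Logarithms. -/
def logT (x : ℕ) : ℕ := [0, 0, 1, 3, 2, 6, 4, 5].getD x 0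

/-- Multiplication in the field. -/
def fmul (x y : ℕ) : ℕ := if x = 0 then 0 else if y = 0 then 0 else expT (logT x + logT y)

/-- Inversion in the field, with the value zero at zero. -/
def finv (x : ℕ) : ℕ := if x = 0 then 0 else expT (7 - logT x)

/-- The coordinate of a finite point. -/
def coord (a : ℕ) : ℕ := if a < 7 then expT a else 0

/-- The determinant of two points. -/
def det (a b : ℕ) : ℕ :=
  if a = 8 then (if b = 8 then 0 else 1) else if b = 8 then 1 else coord a ^^^ coord b

/-- The cross ratio. -/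
def cross (a b c d : Fin 9) : ℕ :=
  fmul (fmul (det a c) (det b d)) (finv (fmul (det a d) (det b c)))

/-- The permutations preserving the cross ratio. -/
def stab : Subgroup (Equiv.Perm (Fin 9)) where
  carrier := {σ | ∀ a b c d, cross (σ a) (σ b) (σ c) (σ d) = cross a b c d}
  one_mem' := fun _ _ _ _ => rfl
  mul_mem' := fun {σ τ} hs ht a b c d => (hs _ _ _ _).trans (ht a b c d)
  inv_mem' := fun {σ} hs a b c d => by
    have h := hs (σ⁻¹ a) (σ⁻¹ b) (σ⁻¹ c) (σ⁻¹ d)
    simp only [Equiv.Perm.inv_def, Equiv.apply_symm_apply] at h ⊢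
    exact h.symm

theorem Jp_mem : Jp ∈ stab := by
  show ∀ a b c d, cross (Jp a) (Jp b) (Jp c) (Jp d) = cross a b c d
  decide +kernel

theorem qp_mem : qp ∈ stab := by
  show ∀ a b c d, cross (qp a) (qp b) (qp c) (qp d) = cross a b c d
  decide +kernel

theorem xp_mem : xp ∈ stab := by
  show ∀ a b c d, cross (xp a) (xp b) (xp c) (xp d) = cross a b c d
  decide +kernel

theorem cp_not_mem : cp ∉ stab := by
  intro h
  exact absurd (h 7 8 0 1) (by decide +kernel)

end CfsgLib.TwoTimesAlt.A4.Line
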