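import Cfsg.Agent.Lib.TwoTimesAlt.A4.Order
import Cfsg.Agent.Lib.TwoTimesAlt.A4.Line

/-!
# Coordinates
-/

set_option autoImplicit false

namespace CfsgLib.TwoTimesAlt.A4

open Subgroup

namespace Four

variable {G : Type*} [Group G] [Finite G] (K : Four G)

/-- Elements playing the part of inversion, scaling, the Frobenius map and translation. -/
structure Coords where
  q : G
  c : G
  x : G
  J : G
  card_G : Nat.card G = 1512
  q_mem : q ∈ K.H
  q_ord : orderOf q = 7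
  c_mem : c ∈ K.H
  c_ord : orderOf c = 3
  c_conj : c * q * c⁻¹ = q ^ 2
  x_ord : orderOf x = 2
  x_not : x ∉ K.H
  x_conj : x * q * x⁻¹ = q⁻¹
  x_c : x * c = c * x
  q_o : q • x • K.base = x • K.base
  c_o : c • x • K.base = x • K.base
  J_mem : J ∈ (K.S : Subgroup G)
  J_ne : J ≠ 1
  c_J : c * J = J * c
  fix_two : ∀ p : G ⧸ K.H, q • p = p → p = K.base ∨ p = x • K.base

theorem exists_coords : Nonempty K.Coords := by
  classical
  obtain ⟨F⟩ := K.exists_frame
  obtain ⟨hG, hfix2, -⟩ := F.card_eq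
  set o := F.u • K.base with ho
  have hob : o ≠ K.base := fun h => F.u_not ((K.smul_base_iff _).mp h)
  have hq0 : F.q • K.base = K.base := F.base_fix
  haveI := Fintype.ofFinite {p : G ⧸ K.H // F.q • p = p}
  have htwo : ∀ p : G ⧸ K.H, F.q • p = p → p = K.base ∨ p = o := by
    intro p hp
    by_contra hne
    push Not at hne
    have h3 : ({⟨K.base, hq0⟩, ⟨o, F.q_fix⟩, ⟨p, hp⟩} : Finset {p : G ⧸ K.H // F.q • p = p}).card = 3 := by
      rw [Finset.card_eq_three]
      exact ⟨_, _, _, fun e => hob (congrArg Subtype.val e).symm, fun e => hne.1 (congrArg Subtype.val e).symm,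
        fun e => hne.2 (congrArg Subtype.val e).symm, rfl⟩
    have := Finset.card_le_univ
      ({⟨K.base, hq0⟩, ⟨o, F.q_fix⟩, ⟨p, hp⟩} : Finset {p : G ⧸ K.H // F.q • p = p})
    rw [h3, ← Nat.card_eq_fintype_card, hfix2] at this
    omega
  have hcb : F.c • K.base = K.base := (K.smul_base_iff _).mpr F.c_mem
  have hq7 : F.q ^ 7 = 1 := orderOf_dvd_iff_pow_eq_one.mp (F.q_ord ▸ dvd_rfl)
  have hco : F.c • o = o := by
    have h4 : F.q * F.c = F.c * F.q ^ 4 := by
      have e : F.c * F.q ^ 4 * F.c⁻¹ = F.q := by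
        rw [← conj_pow, F.c_conj, ← pow_mul, show 2 * 4 = 7 + 1 from rfl, pow_add, hq7, one_mul, pow_one]
      exact (mul_inv_eq_iff_eq_mul.mp e).symm
    have hf : F.q • F.c • o = F.c • o := by
      rw [smul_smul, h4, mul_smul]
      congr 1
      exact pow_mem (show F.q ∈ MulAction.stabilizer G o from F.q_fix) 4
    rcases htwo _ hf with h | h
    · exact absurd (MulAction.injective F.c (h.trans hcb.symm)) hob
    · exact h
  have hcu : orderOf (F.c * F.u * F.c⁻¹) = 2 := by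
    rw [← MulAut.conj_apply, MulEquiv.orderOf_eq, F.u_ord]
  have hcuo : (F.c * F.u * F.c⁻¹) • K.base = o := by
    rw [mul_smul, mul_smul, (K.smul_base_iff _).mpr (inv_mem F.c_mem), ← ho, hco]
  have hqD : F.q ∈ K.D o := Subgroup.mem_inf.mpr ⟨F.q_mem, F.q_fix⟩
  obtain ⟨s, -, hs⟩ := zpowers_seven F.q_ord (K.swap_seven hob F.u_ord rfl hcu hcuo hqD F.q_ord)
  set t := F.q ^ s with ht
  have hut : F.u * t * F.u⁻¹ = t⁻¹ := by rw [ht, ← conj_pow, F.u_inv, inv_pow]
  have hct : F.c * t * F.c⁻¹ = t * t := by rw [ht, ← conj_pow, F.c_conj, ← pow_mul, mul_comm, pow_mul, pow_two]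
  have hu2 := sq_of_two F.u_ord
  have hcu' : F.c * F.u * F.c⁻¹ = F.u * t := by
    rw [← hs, ← mul_assoc, hu2, one_mul]
  set x := F.u * t⁻¹ with hx
  have hxc : x * F.c = F.c * x := by
    refine (mul_inv_eq_iff_eq_mul.mp ?_).symm
    rw [hx, ← conj_mul, hcu', ← conj_inv, hct]
    group
  have hx2 : x * x = 1 := by
    calc x * x = F.u * t⁻¹ * F.u⁻¹ * (F.u * F.u) * t⁻¹ := by rw [hx]; group
      _ = (F.u * t * F.u⁻¹)⁻¹ * (F.u * F.u) * t⁻¹ := by rw [conj_inv]
      _ = 1 := by rw [hut, hu2]; group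
  have hto : t • o = o := pow_mem (show F.q ∈ MulAction.stabilizer G o from F.q_fix) s
  have htb : t • K.base = K.base := (K.smul_base_iff _).mpr (pow_mem F.q_mem s)
  have hxb : x • K.base = o := by
    have htb' : t⁻¹ • K.base = K.base := inv_mem (show t ∈ MulAction.stabilizer G K.base from htb)
    rw [hx, mul_smul, htb']
  have hxq : x * F.q * x⁻¹ = F.q⁻¹ := by
    have hc : t⁻¹ * F.q * t = F.q := by rw [ht]; group
    calc x * F.q * x⁻¹ = F.u * (t⁻¹ * F.q * t) * F.u⁻¹ := by rw [hx]; group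
      _ = F.q⁻¹ := by rw [hc, F.u_inv]
  haveI : Fact (Nat.Prime 3) := ⟨by norm_num⟩
  have hcH : orderOf (⟨F.c, F.c_mem⟩ : K.H) = 3 := by rw [Subgroup.orderOf_mk, F.c_ord]
  have hp : IsPGroup 3 (zpowers (⟨F.c, F.c_mem⟩ : K.H)) :=
    IsPGroup.of_card (n := 1) (by rw [Nat.card_zpowers, hcH, pow_one])
  obtain ⟨z, hz⟩ := hp.nonempty_fixed_point_of_prime_not_dvd_card K.Pts (by rw [card_Pts]; norm_num)
  have hcz : F.c * z.1 = z.1 * F.c :=
    mul_inv_eq_iff_eq_mul.mp (congrArg Subtype.val (hz ⟨_, mem_zpowers _⟩))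
  exact ⟨{
    q := F.q, c := F.c, x := x, J := z.1, card_G := hG, q_mem := F.q_mem, q_ord := F.q_ord
    c_mem := F.c_mem, c_ord := F.c_ord, c_conj := F.c_conj
    x_ord := orderOf_eq_prime (by rw [pow_two, hx2])
      (fun e => hob (by rw [← hxb, e, one_smul]))
    x_not := fun h => hob (by rw [← hxb, (K.smul_base_iff x).mpr h])
    x_conj := hxq, x_c := hxc
    q_o := by rw [hxb]; exact F.q_fix
    c_o := by rw [hxb]; exact hco
    J_mem := z.2.1, J_ne := z.2.2, c_J := hcz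
    fix_two := fun p hp => by rw [hxb]; exact htwo p hp }⟩

namespace Coords

variable {K} (C : K.Coords)

/-- The conjugates of the translation. -/
def e (n : ℕ) : G := C.q ^ n * C.J * (C.q ^ n)⁻¹

theorem q7 : C.q ^ 7 = 1 := orderOf_dvd_iff_pow_eq_one.mp (C.q_ord ▸ dvd_rfl)

theorem e_zero : C.e 0 = C.J := by simp [e]

theorem e_mem (n : ℕ) : C.e n ∈ (K.S : Subgroup G) := K.conj_mem (pow_mem C.q_mem n) C.J_mem

theorem e_ne (n : ℕ) : C.e n ≠ 1 := fun h => C.J_ne (conj_eq_one_iff.mp h)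

theorem e_congr {n m : ℕ} (h : n % 7 = m % 7) : C.e n = C.e m := by
  have : C.q ^ n = C.q ^ m := by rw [pow_inj_mod, C.q_ord, h]
  rw [e, e, this]

theorem q_e (j n : ℕ) : C.q ^ j * C.e n * (C.q ^ j)⁻¹ = C.e (j + n) := by
  rw [e, e, pow_add]; group

theorem c_e (n : ℕ) : C.c * C.e n * C.c⁻¹ = C.e (2 * n) := by
  have h1 : C.c * C.q ^ n * C.c⁻¹ = C.q ^ (2 * n) := by rw [← conj_pow, C.c_conj, pow_mul]
  have h2 : C.c * C.J * C.c⁻¹ = C.J := mul_inv_eq_iff_eq_mul.mpr C.c_J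
  calc C.c * C.e n * C.c⁻¹ = (C.c * C.q ^ n * C.c⁻¹) * (C.c * C.J * C.c⁻¹) * (C.c * C.q ^ n * C.c⁻¹)⁻¹ := by
        rw [e]; group
    _ = C.e (2 * n) := by rw [h1, h2, e]

theorem e_inj {n m : ℕ} (h : C.e n = C.e m) : n % 7 = m % 7 := by
  set w := (C.q ^ m)⁻¹ * C.q ^ n with hw
  have hJ : w * C.J = C.J * w := by
    calc w * C.J = (C.q ^ m)⁻¹ * C.e n * C.q ^ n := by rw [hw, e]; group
      _ = C.J * w := by rw [h, hw, e]; group
  have hw7 : w ^ 7 = 1 := by
    rw [hw, ((Commute.refl C.q).pow_pow _ _).inv_left.mul_pow, inv_pow, ← pow_mul, ← pow_mul, mul_comm m,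
      mul_comm n, pow_mul, pow_mul, C.q7, one_pow, one_pow, inv_one, one_mul]
  have := K.seven_not_comm hw7 (K.orderOf_two_of_mem C.J_mem C.J_ne) hJ
  rw [hw, inv_mul_eq_one, pow_inj_mod, C.q_ord] at this
  exact this.symm

theorem e_surj {z : G} (hz : z ∈ (K.S : Subgroup G)) (hz1 : z ≠ 1) : ∃ n < 7, C.e n = z := by
  classical
  haveI := Fintype.ofFinite K.Pts
  have hb : Function.Bijective fun i : Fin 7 => (⟨C.e i, C.e_mem i, C.e_ne i⟩ : K.Pts) := by
    rw [Fintype.bijective_iff_injective_and_card, ← Nat.card_eq_fintype_card (α := K.Pts), card_Pts]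
    refine ⟨fun i j h => Fin.ext ?_, Fintype.card_fin 7⟩
    have := C.e_inj (congrArg (fun y : K.Pts => y.1) h)
    have := i.2
    have := j.2
    omega
  obtain ⟨i, hi⟩ := hb.2 ⟨z, hz, hz1⟩
  exact ⟨i, i.2, congrArg (fun y : K.Pts => y.1) hi⟩

/-- The relation `J e n = e m`. -/
def Rel (n m : ℕ) : Prop := C.J * C.e n = C.e m

theorem rel_symm {n m : ℕ} (h : C.Rel n m) : C.Rel m n := by
  show C.J * C.e m = C.e n
  rw [← show C.J * C.e n = C.e m from h, ← mul_assoc, K.sq_of_mem C.J_mem, one_mul]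

theorem rel_double {n m : ℕ} (h : C.Rel n m) : C.Rel (2 * n) (2 * m) := by
  show C.J * C.e (2 * n) = C.e (2 * m)
  rw [← C.c_e, ← C.c_e, ← show C.J * C.e n = C.e m from h, ← conj_mul, mul_inv_eq_iff_eq_mul.mpr C.c_J]

theorem rel_shift {n m : ℕ} (h : C.Rel n m) (j : ℕ) : C.e j * C.e (j + n) = C.e (j + m) := by
  rw [← C.q_e, ← C.q_e, ← show C.J * C.e n = C.e m from h]
  show C.q ^ j * C.J * (C.q ^ j)⁻¹ * _ = _
  rw [conj_mul]

theorem rel_unique {n m m' : ℕ} (h : C.Rel n m) (h' : C.Rel n m') : m % 7 = m' % 7 :=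
  C.e_inj ((show C.J * C.e n = C.e m from h).symm.trans h')

theorem rel_congr {n m n' m' : ℕ} (h : C.Rel n m) (hn : n % 7 = n' % 7) (hm : m % 7 = m' % 7) :
    C.Rel n' m' := by
  show C.J * C.e n' = C.e m'
  rw [← C.e_congr hn, ← C.e_congr hm]; exact h

/-- Coordinates with the standard addition table. -/
theorem exists_std : ∃ C : K.Coords, C.Rel 1 3 := by
  obtain ⟨C⟩ := K.exists_coords
  have hm : C.J * C.e 1 ∈ (K.S : Subgroup G) := mul_mem C.J_mem (C.e_mem 1)
  have hne : C.J * C.e 1 ≠ 1 := fun h => by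
    have : C.e 1 = C.e 0 := by
      rw [C.e_zero]
      exact mul_left_cancel (h.trans (K.sq_of_mem C.J_mem).symm)
    have := C.e_inj this
    norm_num at this
  obtain ⟨s, hs, hes⟩ := C.e_surj hm hne
  have h1 : C.Rel 1 s := hes.symm
  have h2 : C.Rel 2 (2 * s) := C.rel_double h1
  have h4 : C.Rel 4 (4 * s) := C.rel_congr (C.rel_double h2) rfl (by omega)
  have hs1 : C.Rel s 1 := C.rel_symm h1
  have h6 : C.Rel 6 (s + 6) := by
    have h := C.rel_shift h1 6
    rw [show C.e (6 + 1) = C.e 0 from C.e_congr rfl, C.e_zero, K.comm_of_mem (C.e_mem 6) C.J_mem] at h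
    exact C.rel_congr h rfl (by omega)
  have hcases : s = 3 ∨ s = 5 := by
    have hs0 : s ≠ 0 := fun h => by
      subst h
      refine C.e_ne 1 ?_
      have e1 : C.J * C.e 1 = C.e 0 := h1
      rw [C.e_zero] at e1
      exact mul_eq_left.mp e1
    have hs1' : s ≠ 1 := fun h => by
      subst h
      exact C.J_ne (mul_eq_right.mp (h1 : C.J * C.e 1 = C.e 1))
    interval_cases s
    · omega
    · omega
    · exact absurd (C.rel_unique h2 hs1) (by norm_num)
    · exact Or.inl rfl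
    · exact absurd (C.rel_unique h4 hs1) (by norm_num)
    · exact Or.inr rfl
    · exact absurd (C.rel_unique h6 hs1) (by norm_num)
  rcases hcases with rfl | rfl
  · exact ⟨C, h1⟩
  let C' : K.Coords :=
    { C with
      q := C.q⁻¹
      q_mem := inv_mem C.q_mem
      q_ord := by rw [orderOf_inv, C.q_ord]
      c_conj := by rw [← conj_inv, C.c_conj, inv_pow]
      x_conj := by rw [← conj_inv, C.x_conj]
      q_o := inv_mem (show C.q ∈ MulAction.stabilizer G (C.x • K.base) from C.q_o)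
      fix_two := fun p hp => C.fix_two p (by
        have := inv_mem (show C.q⁻¹ ∈ MulAction.stabilizer G p from hp)
        rwa [inv_inv] at this) }
  refine ⟨C', ?_⟩
  have he : ∀ n, C'.e n = C.e (6 * n) := by
    intro n
    have : C.q⁻¹ ^ n = C.q ^ (6 * n) := by
      rw [pow_mul, show C.q ^ 6 = C.q⁻¹ by rw [eq_inv_iff_mul_eq_one, ← pow_succ, C.q7]]
    show C.q⁻¹ ^ n * C.J * (C.q⁻¹ ^ n)⁻¹ = _
    rw [this]; rfl
  show C.J * C'.e 1 = C'.e 3
  rw [he, he, show C.e (6 * 3) = C.e (5 + 6) from C.e_congr rfl]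
  exact h6

end Coords

end Four

end CfsgLib.TwoTimesAlt.A4
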