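import Cfsg.Agent.Lib.TwoTimesAlt.A4.Perms
import Cfsg.Agent.S1230
import Cfsg.Agent.Lib.AutPSL.Count
import Cfsg.Agent.Lib.Linear.Card

/-!
# Identification with the automorphism group of PSL(2,8)
-/

set_option autoImplicit false

namespace CfsgLib.TwoTimesAlt.A4

open Subgroup

namespace Four

variable {G : Type*} [Group G] [Finite G] {K : Four G}

theorem centralizer_inf_normal (L : Subgroup G) [L.Normal] (hS : (K.S : Subgroup G) ≤ L) (hL : L.index = 3)
    {c : G} (hcJ : c * K.J = K.J * c) (hcL : c ∉ L) {y : G} (hyL : y ∈ L) (hy : y * K.J = K.J * y) :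
    y ∈ (K.S : Subgroup G) := by
  set B : Subgroup G := centralizer ({K.J} : Set G) ⊓ L with hB
  have hSB : (K.S : Subgroup G) ≤ B := le_inf
    (fun z hz => mem_centralizer_singleton_iff.mpr (K.comm_of_mem hz K.J_mem)) hS
  have hC : Nat.card (centralizer ({K.J} : Set G)) = 24 := by
    rw [J, K.range_eq, Nat.card_congr (MonoidHom.ofInjective K.inj).toEquiv.symm, card_M4]
  have h1 := card_dvd_of_le hSB
  have h2 := card_dvd_of_le (inf_le_left : B ≤ centralizer ({K.J} : Set G))
  rw [K.card_S] at h1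
  rw [hC] at h2
  have hne : Nat.card B ≠ 24 := fun h => by
    have h3 : B = centralizer ({K.J} : Set G) := eq_of_le_of_card_ge inf_le_left (by rw [hC]; exact h.ge)
    have hcB : c ∈ B := by rw [h3]; exact mem_centralizer_singleton_iff.mpr hcJ
    exact hcL (Subgroup.mem_inf.mp hcB).2
  have hle := Nat.le_of_dvd (by norm_num) h2
  have h8 : Nat.card B ≤ 8 := by
    obtain ⟨k, hk⟩ := h1
    have hk3 : 8 * k ∣ 8 * 3 := by rw [← hk]; exact h2
    have hk' := Nat.dvd_of_mul_dvd_mul_left (by norm_num) hk3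
    rcases (Nat.dvd_prime Nat.prime_three).mp hk' with rfl | rfl <;> omega
  rw [eq_of_le_of_card_ge hSB (by rw [K.card_S]; exact h8)]
  exact Subgroup.mem_inf.mpr ⟨mem_centralizer_singleton_iff.mpr hy, hyL⟩

namespace Coords

variable (C : K.Coords) (h13 : C.Rel 1 3)

include C h13 in
theorem L_iso : ∃ (F : Type) (_ : Field F) (_ : Fintype F), Fintype.card F = 8 ∧
    Nonempty (C.L ≃* Matrix.ProjectiveSpecialLinearGroup (Fin 2) F) := by
  haveI := C.L_normal
  haveI : Fact (Nat.Prime 2) := ⟨Nat.prime_two⟩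
  -- a conjugate of `c` centralises the distinguished involution
  obtain ⟨h, -, hJ⟩ := K.exists_conj_H C.J_mem C.J_ne
  have hcJ : (h⁻¹ * C.c * h) * K.J = K.J * (h⁻¹ * C.c * h) := by
    calc (h⁻¹ * C.c * h) * K.J = h⁻¹ * (C.c * (h * K.J * h⁻¹)) * h := by group
      _ = h⁻¹ * (C.J * C.c) * h := by rw [hJ, C.c_J]
      _ = K.J * (h⁻¹ * C.c * h) := by rw [← hJ]; group
  have hcL : h⁻¹ * C.c * h ∉ C.L := fun hm => C.c_not_mem h13 (by
    have := (inferInstance : C.L.Normal).conj_mem _ hm h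
    rwa [show h * (h⁻¹ * C.c * h) * h⁻¹ = C.c by group] at this)
  let T : Sylow 2 C.L := K.S.subtype C.S_le_L
  have hTcard : Nat.card T = 8 := by
    show Nat.card ((K.S : Subgroup G).subgroupOf C.L) = 8
    rw [Nat.card_congr (subgroupOfEquivOfLe C.S_le_L).toEquiv, K.card_S]
  have hsq : ∀ t : (T : Subgroup C.L), t ^ 2 = 1 := fun t => Subtype.ext (Subtype.ext (by
    rw [pow_two]; exact K.sq_of_mem t.2))
  have hnc : ¬ IsCyclic (T : Subgroup C.L) := by
    intro hc
    obtain ⟨g, hg⟩ := hc.exists_ofOrder_eq_natCard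
    have := orderOf_dvd_of_pow_eq_one (hsq g)
    rw [hg] at this
    rw [hTcard] at this
    norm_num at this
  have hnn : ¬ (T : Subgroup C.L).Normal := by
    intro hn
    have hJx : C.x * C.J * C.x⁻¹ ∈ (K.S : Subgroup G) :=
      hn.conj_mem ⟨C.J, C.J_mem_L⟩ C.J_mem ⟨C.x, C.x_mem_L⟩
    refine C.x_not (inv_mem_iff.mp (K.strong C.J_mem C.J_ne ?_))
    rwa [inv_inv]
  have hcent : ∀ t : C.L, orderOf t = 2 → IsMulCommutative (centralizer ({t} : Set C.L)) ∧
      ∀ c ∈ centralizer ({t} : Set C.L), c ^ 2 = 1 := by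
    intro t ht
    obtain ⟨g, hg⟩ := K.invol_conj (u := (t : G)) (by rw [Subgroup.orderOf_coe, ht])
    have key : ∀ w ∈ centralizer ({t} : Set C.L), g⁻¹ * (w : G) * g ∈ (K.S : Subgroup G) := by
      intro w hw
      have hwt : (w : G) * t = t * w := congrArg Subtype.val (mem_centralizer_singleton_iff.mp hw)
      refine centralizer_inf_normal C.L C.S_le_L (C.index_L h13) hcJ hcL ?_ ?_
      · simpa using (inferInstance : C.L.Normal).conj_mem _ w.2 g⁻¹
      · calc g⁻¹ * (w : G) * g * K.J = g⁻¹ * ((w : G) * (g * K.J * g⁻¹)) * g := by group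
          _ = g⁻¹ * (t * (w : G)) * g := by rw [hg, hwt]
          _ = K.J * (g⁻¹ * (w : G) * g) := by rw [← hg]; group
    refine ⟨⟨⟨fun a b => ?_⟩⟩, fun w hw => ?_⟩
    · refine Subtype.ext (Subtype.ext ?_)
      have h' := K.comm_of_mem (key _ a.2) (key _ b.2)
      calc ((a.1 : G)) * b.1 = g * ((g⁻¹ * a.1 * g) * (g⁻¹ * b.1 * g)) * g⁻¹ := by group
        _ = g * ((g⁻¹ * b.1 * g) * (g⁻¹ * a.1 * g)) * g⁻¹ := by rw [h']
        _ = (b.1 : G) * a.1 := by group
    · refine Subtype.ext ?_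
      have h' := K.sq_of_mem (key _ hw)
      rw [SubmonoidClass.coe_pow, pow_two]
      calc (w : G) * w = g * ((g⁻¹ * w * g) * (g⁻¹ * w * g)) * g⁻¹ := by group
        _ = 1 := by rw [h']; group
  obtain ⟨F, iF, iFin, hcard, hiso⟩ := Cfsg.Agent.S1230.result T hnc hnn hcent
  exact ⟨F, iF, iFin, by rw [hcard, hTcard], hiso⟩

theorem centralizer_L : centralizer (C.L : Set G) = ⊥ := by
  rw [eq_bot_iff]
  intro z hz
  rw [mem_bot]
  by_contra hz1
  have hzS : z ∈ (K.S : Subgroup G) := K.mem_S_of_central fun a ha =>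
    ((mem_centralizer_iff.mp hz) a (C.S_le_L ha)).symm
  exact C.x_not (K.centralizer_le hzS hz1 ((mem_centralizer_iff.mp hz) C.x C.x_mem_L))

include C h13 in
theorem main : ∃ (F : Type) (_ : Field F) (_ : Fintype F), Fintype.card F = 8 ∧
    Nonempty (G ≃* MulAut (Matrix.ProjectiveSpecialLinearGroup (Fin 2) F)) := by
  obtain ⟨F, iF, iFin, hcard, ⟨e⟩⟩ := C.L_iso h13
  refine ⟨F, iF, iFin, hcard, ?_⟩
  classical
  haveI : C.L.Normal := C.L_normal
  haveI : Fact (Nat.Prime 2) := ⟨Nat.prime_two⟩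
  have hinj : Function.Injective (MulAut.conjNormal : G →* MulAut C.L) := by
    rw [← MonoidHom.ker_eq_bot_iff, eq_bot_iff, ← C.centralizer_L]
    intro g hg
    refine mem_centralizer_iff.mpr fun a ha => ?_
    have := congrArg Subtype.val (DFunLike.congr_fun (show MulAut.conjNormal g = (1 : MulAut C.L) from hg) ⟨a, ha⟩)
    rw [MulAut.conjNormal_apply] at this
    exact (mul_inv_eq_iff_eq_mul.mp this).symm
  let f : G →* MulAut (Matrix.ProjectiveSpecialLinearGroup (Fin 2) F) :=
    (MulAut.congr e).toMonoidHom.comp MulAut.conjNormal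
  have hf : Function.Injective f := (MulAut.congr e).injective.comp hinj
  have hc := CfsgLib.AutPSL.card_aut (n := 2) (F := F) 2 3 (by rw [hcard]; norm_num) le_rfl
  rw [if_pos rfl, CfsgLib.Linear.card_PGL, CfsgLib.Linear.card_SL_two, hcard] at hc
  have hc' : Nat.card (MulAut (Matrix.ProjectiveSpecialLinearGroup (Fin 2) F)) = 1512 := by
    rw [hc]; norm_num
  haveI : Finite (MulAut (Matrix.ProjectiveSpecialLinearGroup (Fin 2) F)) :=
    Nat.finite_of_card_ne_zero (by rw [hc']; norm_num)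
  have hb : Function.Bijective f := hf.bijective_of_nat_card_le (by rw [C.card_G, hc'])
  exact ⟨MulEquiv.ofBijective f hb⟩

end Coords

/-- A group with these data is the automorphism group of PSL(2,8). -/
theorem identify (K : Four G) : ∃ (F : Type) (_ : Field F) (_ : Fintype F), Fintype.card F = 8 ∧
    Nonempty (G ≃* MulAut (Matrix.ProjectiveSpecialLinearGroup (Fin 2) F)) := by
  obtain ⟨C, h13⟩ := Coords.exists_std (K := K)
  exact C.main h13

end Four

end CfsgLib.TwoTimesAlt.A4
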