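import Cfsg.Agent.Lib.TwoTimesAlt.A4.Model
import Mathlib.GroupTheory.Sylow
import Mathlib.GroupTheory.GroupAction.Quotient
import Mathlib.GroupTheory.SpecificGroups.ZGroup

/-!
# Sylow normaliser and fusion for an involution centraliser 2 × A₄
-/

set_option autoImplicit false

namespace CfsgLib.TwoTimesAlt.A4

open Subgroup

/-- A group with a 2-central involution with centraliser `2 × A₄`, fused to another involution. -/
structure Four (G : Type*) [Group G] where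
  j : M4 →* G
  inj : Function.Injective j
  range_eq : centralizer ({j z0} : Set G) = j.range
  S : Sylow 2 G
  S_le : (S : Subgroup G) ≤ j.range
  moved : ∃ g : G, g * j z0 * g⁻¹ ∈ j.range ∧ g * j z0 * g⁻¹ ≠ j z0
  hns : ¬ Group.IsSolvable G

namespace Four

variable {G : Type*} [Group G] [Finite G] (K : Four G)

/-- The central involution. -/
def J : G := K.j z0

/-- The Sylow normaliser. -/
def H : Subgroup G := normalizer ((K.S : Subgroup G) : Set G)

theorem J_sq : K.J * K.J = 1 := by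
  rw [J, ← map_mul, mem_E0.mp z0_mem, map_one]

theorem J_ne : K.J ≠ 1 := fun h => z0_ne (K.inj (h.trans (map_one _).symm))

theorem orderOf_J : orderOf K.J = 2 := orderOf_eq_prime (by rw [pow_two, J_sq]) K.J_ne

theorem S_eq : (K.S : Subgroup G) = E0.map K.j := by
  haveI : Fact (Nat.Prime 2) := ⟨Nat.prime_two⟩
  have hc : Nat.card (E0.map K.j) = 8 := by rw [card_map_of_injective K.inj, card_E0]
  refine Subgroup.eq_of_le_of_card_ge (fun x hx => ?_) ?_
  · obtain ⟨m, rfl⟩ := K.S_le hx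
    obtain ⟨k, hk⟩ := K.S.isPGroup' ⟨_, hx⟩
    have h1 : m ^ 2 ^ k = 1 := K.inj (by
      rw [map_pow, map_one]; exact congrArg Subtype.val hk)
    refine ⟨m, ?_, rfl⟩
    obtain ⟨l, -, he⟩ := (Nat.dvd_prime_pow Nat.prime_two).mp (orderOf_dvd_of_pow_eq_one h1)
    have h24 : 2 ^ l ∣ 8 * 3 := by
      have := orderOf_dvd_natCard m
      rw [card_M4, he] at this
      exact this
    have h8 : 2 ^ l ∣ 2 ^ 3 :=
      Nat.Coprime.dvd_of_dvd_mul_right (Nat.Coprime.pow_left l (by norm_num)) h24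
    exact sq_of_pow_eight m (orderOf_dvd_iff_pow_eq_one.mp (he ▸ h8))
  · rw [hc]
    refine Nat.le_of_dvd Nat.card_pos ?_
    refine K.S.pow_dvd_card_of_pow_dvd_card (n := 3) ?_
    have := card_subgroup_dvd_card (E0.map K.j)
    rw [hc] at this
    simpa using this

theorem card_S : Nat.card (K.S : Subgroup G) = 8 := by
  rw [S_eq, card_map_of_injective K.inj, card_E0]

theorem mem_S {x : G} : x ∈ (K.S : Subgroup G) ↔ ∃ m : M4, m * m = 1 ∧ K.j m = x := by
  rw [S_eq, mem_map]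
  rfl

theorem J_mem : K.J ∈ (K.S : Subgroup G) := K.mem_S.mpr ⟨z0, mem_E0.mp z0_mem, rfl⟩

include K in
theorem not_sixteen : ¬ 16 ∣ Nat.card G := by
  haveI : Fact (Nat.Prime 2) := ⟨Nat.prime_two⟩
  intro h
  have := K.S.pow_dvd_card_of_pow_dvd_card (n := 4) (by simpa using h)
  rw [card_S] at this
  norm_num at this

theorem sq_of_mem {x : G} (hx : x ∈ (K.S : Subgroup G)) : x * x = 1 := by
  obtain ⟨m, hm, rfl⟩ := K.mem_S.mp hx
  rw [← map_mul, hm, map_one]

theorem comm_of_mem {x y : G} (hx : x ∈ (K.S : Subgroup G)) (hy : y ∈ (K.S : Subgroup G)) :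
    x * y = y * x := by
  have h1 := K.sq_of_mem (mul_mem hx hy)
  have hxi : x⁻¹ = x := inv_eq_of_mul_eq_one_right (K.sq_of_mem hx)
  have hyi : y⁻¹ = y := inv_eq_of_mul_eq_one_right (K.sq_of_mem hy)
  rw [← inv_eq_of_mul_eq_one_right h1, mul_inv_rev, hxi, hyi]

theorem mem_S_of_central {x : G} (hx : ∀ a ∈ (K.S : Subgroup G), x * a = a * x) :
    x ∈ (K.S : Subgroup G) := by
  have h1 : x ∈ centralizer ({K.j z0} : Set G) := mem_centralizer_singleton_iff.mpr (hx _ K.J_mem)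
  rw [K.range_eq] at h1
  obtain ⟨m, rfl⟩ := h1
  refine K.mem_S.mpr ⟨m, self_centralizing m fun a ha => K.inj ?_, rfl⟩
  rw [map_mul, map_mul]
  exact hx _ (K.mem_S.mpr ⟨a, ha, rfl⟩)

theorem mem_H {h : G} : h ∈ K.H ↔ ∀ a, a ∈ (K.S : Subgroup G) ↔ h * a * h⁻¹ ∈ (K.S : Subgroup G) :=
  mem_normalizer_iff

theorem conj_mem {h a : G} (hh : h ∈ K.H) (ha : a ∈ (K.S : Subgroup G)) :
    h * a * h⁻¹ ∈ (K.S : Subgroup G) := (K.mem_H.mp hh a).mp ha

theorem S_le_H : (K.S : Subgroup G) ≤ K.H := le_normalizer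

theorem range_le : K.j.range ≤ K.H := by
  rintro _ ⟨m, rfl⟩
  refine K.mem_H.mpr fun a => ⟨fun ha => ?_, fun ha => ?_⟩
  · obtain ⟨b, hb, rfl⟩ := K.mem_S.mp ha
    refine K.mem_S.mpr ⟨m * b * m⁻¹, ?_, by rw [map_mul, map_mul, map_inv]⟩
    rw [conj_mul, hb, mul_one, mul_inv_cancel]
  · obtain ⟨b, hb, he⟩ := K.mem_S.mp ha
    refine K.mem_S.mpr ⟨m⁻¹ * b * m⁻¹⁻¹, ?_, ?_⟩
    · rw [conj_mul, hb, mul_one, mul_inv_cancel]
    · simp only [map_mul, map_inv, he]; group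

/-- The non-trivial elements of the Sylow 2-subgroup. -/
abbrev Pts : Type _ := {x : G // x ∈ (K.S : Subgroup G) ∧ x ≠ 1}

instance : MulAction K.H K.Pts where
  smul h z := ⟨(h : G) * z.1 * (h : G)⁻¹, K.conj_mem h.2 z.2.1, by
    intro e
    exact z.2.2 (conj_eq_one_iff.mp e)⟩
  one_smul z := Subtype.ext (by show (1 : G) * z.1 * 1⁻¹ = z.1; group)
  mul_smul a b z := Subtype.ext (by
    show ((a : G) * b) * z.1 * ((a : G) * b)⁻¹ = (a : G) * ((b : G) * z.1 * (b : G)⁻¹) * (a : G)⁻¹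
    group)

/-- The central involution as a point. -/
def Jpt : K.Pts := ⟨K.J, K.J_mem, K.J_ne⟩

theorem smul_val (h : K.H) (z : K.Pts) : (h • z).1 = (h : G) * z.1 * (h : G)⁻¹ := rfl

theorem card_Pts : Nat.card K.Pts = 7 := by
  have e : K.Pts ≃ {x : (K.S : Subgroup G) // x ≠ 1} :=
    { toFun := fun z => ⟨⟨z.1, z.2.1⟩, fun h => z.2.2 (congrArg Subtype.val h)⟩
      invFun := fun z => ⟨z.1.1, z.1.2, fun h => z.2 (Subtype.ext h)⟩
      left_inv := fun _ => rfl
      right_inv := fun _ => rfl }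
  classical
  haveI := Fintype.ofFinite (K.S : Subgroup G)
  rw [Nat.card_congr e, Nat.card_eq_fintype_card, Fintype.card_subtype_compl,
    Fintype.card_subtype_eq, ← Nat.card_eq_fintype_card, card_S]

theorem stabilizer_eq : MulAction.stabilizer K.H K.Jpt = K.j.range.subgroupOf K.H := by
  ext h
  rw [MulAction.mem_stabilizer_iff, mem_subgroupOf, ← K.range_eq, mem_centralizer_singleton_iff]
  constructor
  · intro e
    exact mul_inv_eq_iff_eq_mul.mp (congrArg Subtype.val e)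
  · intro e
    exact Subtype.ext (mul_inv_eq_iff_eq_mul.mpr e)

theorem burnside {x g : G} (hx : x ∈ (K.S : Subgroup G)) (hy : g⁻¹ * x * g ∈ (K.S : Subgroup G)) :
    ∃ n ∈ K.H, g⁻¹ * x * g = n⁻¹ * x * n := by
  haveI : Fact (Nat.Prime 2) := ⟨Nat.prime_two⟩
  haveI : IsMulCommutative K.S := ⟨⟨fun a b => Subtype.ext (K.comm_of_mem a.2 b.2)⟩⟩
  exact K.S.conj_eq_normalizer_conj_of_mem x g hx hy

theorem card_range : Nat.card (K.j.range.subgroupOf K.H) = 24 := by
  rw [Nat.card_congr (subgroupOfEquivOfLe K.range_le).toEquiv,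
    Nat.card_congr (MonoidHom.ofInjective K.inj).toEquiv.symm, card_M4]

theorem card_orbit : (MulAction.orbit K.H K.Jpt).ncard = 7 := by
  classical
  haveI := Fintype.ofFinite K.Pts
  have hmul : Nat.card K.H = 24 * (MulAction.orbit K.H K.Jpt).ncard := by
    rw [← MulAction.index_stabilizer, stabilizer_eq, ← K.card_range, card_mul_index]
  have hodd : (MulAction.orbit K.H K.Jpt).ncard % 2 = 1 := by
    by_contra h
    refine K.not_sixteen ((dvd_trans ?_ (card_subgroup_dvd_card K.H)))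
    rw [hmul]
    obtain ⟨c, hc⟩ : 2 ∣ (MulAction.orbit K.H K.Jpt).ncard := by omega
    exact ⟨3 * c, by rw [hc]; ring⟩
  let O : Finset M4 := Finset.univ.filter fun m => ∃ z ∈ MulAction.orbit K.H K.Jpt, K.j m = z.1
  have hsub : ∀ a ∈ O, a * a = 1 ∧ a ≠ 1 := by
    intro a ha
    obtain ⟨-, z, -, he⟩ := Finset.mem_filter.mp ha
    refine ⟨K.inj ?_, fun h => z.2.2 ?_⟩
    · rw [map_mul, he, map_one]; exact K.sq_of_mem z.2.1
    · rw [← he, h, map_one]
  have hcard : O.card = (MulAction.orbit K.H K.Jpt).ncard := by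
    rw [← Set.ncard_coe_finset]
    refine Set.ncard_congr (fun m hm => (⟨K.j m, ?_, ?_⟩ : K.Pts)) (fun m hm => ?_)
      (fun a b _ _ e => K.inj (congrArg Subtype.val e)) (fun z hz => ?_)
    · obtain ⟨-, z, -, he⟩ := Finset.mem_filter.mp hm
      rw [he]; exact z.2.1
    · obtain ⟨-, z, -, he⟩ := Finset.mem_filter.mp hm
      rw [he]; exact z.2.2
    · obtain ⟨-, z, hz, he⟩ := Finset.mem_filter.mp hm
      convert hz
    · obtain ⟨m, -, he⟩ := K.mem_S.mp z.2.1
      exact ⟨m, Finset.mem_filter.mpr ⟨Finset.mem_univ _, z, hz, he⟩, Subtype.ext he⟩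
  rw [← hcard] at hodd ⊢
  refine orbit_eq O hsub ?_ (fun a ha => ?_) hodd ?_
  · exact Finset.mem_filter.mpr ⟨Finset.mem_univ _, _, MulAction.mem_orbit_self _, rfl⟩
  · obtain ⟨-, z, hz, he⟩ := Finset.mem_filter.mp ha
    refine Finset.mem_filter.mpr ⟨Finset.mem_univ _,
      (⟨K.j m0, K.range_le ⟨m0, rfl⟩⟩ : K.H) • z, MulAction.mem_orbit_of_mem_orbit _ hz, ?_⟩
    rw [smul_val, map_mul, map_mul, map_inv, he]
  · obtain ⟨g, hg, hne⟩ := K.moved
    obtain ⟨m, hm⟩ := hg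
    have hm2 : m * m = 1 := K.inj (by
      rw [map_mul, hm, conj_mul, ← J, J_sq, map_one, mul_one, mul_inv_cancel])
    have hgS : g⁻¹⁻¹ * K.J * g⁻¹ ∈ (K.S : Subgroup G) := by
      rw [inv_inv]; exact K.mem_S.mpr ⟨m, hm2, hm⟩
    obtain ⟨n, hn, he⟩ := K.burnside K.J_mem hgS
    rw [inv_inv] at he
    intro h1
    obtain ⟨a, ha⟩ := Finset.card_eq_one.mp h1
    have hz : z0 ∈ O :=
      Finset.mem_filter.mpr ⟨Finset.mem_univ _, _, MulAction.mem_orbit_self _, rfl⟩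
    have hmO : m ∈ O := Finset.mem_filter.mpr ⟨Finset.mem_univ _,
      (⟨n⁻¹, inv_mem hn⟩ : K.H) • K.Jpt, MulAction.mem_orbit _ _, by
        rw [smul_val, hm, inv_inv]; exact he⟩
    rw [ha, Finset.mem_singleton] at hz hmO
    exact hne (by rw [← hm, hmO, ← hz])

theorem card_H : Nat.card K.H = 168 := by
  rw [← card_mul_index (MulAction.stabilizer K.H K.Jpt), MulAction.index_stabilizer, card_orbit,
    stabilizer_eq, card_range]

theorem exists_conj_H {z : G} (hz : z ∈ (K.S : Subgroup G)) (hz1 : z ≠ 1) :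
    ∃ h ∈ K.H, h * K.J * h⁻¹ = z := by
  have h : MulAction.orbit K.H K.Jpt = Set.univ := by
    refine Set.eq_of_subset_of_ncard_le (Set.subset_univ _) ?_
    rw [Set.ncard_univ, card_Pts, card_orbit]
  have hm : (⟨z, hz, hz1⟩ : K.Pts) ∈ MulAction.orbit K.H K.Jpt := by rw [h]; trivial
  obtain ⟨n, hn⟩ := hm
  exact ⟨n, n.2, congrArg Subtype.val hn⟩

theorem centralizer_le {z : G} (hz : z ∈ (K.S : Subgroup G)) (hz1 : z ≠ 1) {x : G}
    (hx : x * z = z * x) : x ∈ K.H := by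
  obtain ⟨h, hh, rfl⟩ := K.exists_conj_H hz hz1
  have hc : h⁻¹ * x * h ∈ centralizer ({K.J} : Set G) := mem_centralizer_singleton_iff.mpr (by
    calc h⁻¹ * x * h * K.J = h⁻¹ * (x * (h * K.J * h⁻¹)) * h := by group
      _ = h⁻¹ * (h * K.J * h⁻¹ * x) * h := by rw [hx]
      _ = K.J * (h⁻¹ * x * h) := by group)
  rw [J, K.range_eq] at hc
  have h3 := mul_mem (mul_mem hh (K.range_le hc)) (inv_mem hh)
  rwa [show h * (h⁻¹ * x * h) * h⁻¹ = x by group] at h3

/-- The normaliser controls intersections with the Sylow subgroup strongly. -/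
theorem strong {z g : G} (hz : z ∈ (K.S : Subgroup G)) (hz1 : z ≠ 1)
    (hy : g⁻¹ * z * g ∈ (K.S : Subgroup G)) : g ∈ K.H := by
  obtain ⟨n, hn, he⟩ := K.burnside hz hy
  have hc : g * n⁻¹ ∈ K.H := by
    refine K.centralizer_le hz hz1 ?_
    calc g * n⁻¹ * z = g * (n⁻¹ * z * n) * n⁻¹ := by group
      _ = g * (g⁻¹ * z * g) * n⁻¹ := by rw [he]
      _ = z * (g * n⁻¹) := by group
  have := mul_mem hc hn
  rwa [inv_mul_cancel_right] at this

theorem mem_S_of_sq {x : G} (hx : x ∈ K.H) (h2 : x * x = 1) : x ∈ (K.S : Subgroup G) := by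
  haveI : Fact (Nat.Prime 2) := ⟨Nat.prime_two⟩
  have hp : IsPGroup 2 (zpowers x) := by
    intro y
    refine ⟨1, ?_⟩
    obtain ⟨_, i, rfl⟩ := y
    apply Subtype.ext
    rw [SubmonoidClass.coe_pow, OneMemClass.coe_one, pow_one, ← zpow_natCast, ← zpow_mul,
      mul_comm, zpow_mul, zpow_natCast, pow_two, h2, one_zpow]
  have h := hp.inf_normalizer_sylow K.S
  have hm : x ∈ zpowers x ⊓ normalizer (K.S : Set G) :=
    Subgroup.mem_inf.mpr ⟨mem_zpowers x, hx⟩
  rw [h] at hm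
  exact (Subgroup.mem_inf.mp hm).2

theorem invol_conj {u : G} (hu : orderOf u = 2) : ∃ g : G, g * K.J * g⁻¹ = u := by
  haveI : Fact (Nat.Prime 2) := ⟨Nat.prime_two⟩
  have hp : IsPGroup 2 (zpowers u) := IsPGroup.of_card (n := 1) (by rw [Nat.card_zpowers, hu, pow_one])
  obtain ⟨P, hP⟩ := hp.exists_le_sylow
  obtain ⟨g, hg⟩ := MulAction.exists_smul_eq G P K.S
  have hmem : g * u * g⁻¹ ∈ (K.S : Subgroup G) := by
    rw [← hg, Sylow.coe_subgroup_smul]
    exact Subgroup.smul_mem_pointwise_smul u (MulAut.conj g) _ (hP (mem_zpowers u))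
  have hne : g * u * g⁻¹ ≠ 1 := fun h => by
    rw [conj_eq_one_iff] at h
    rw [h, orderOf_one] at hu
    norm_num at hu
  obtain ⟨h, -, he⟩ := K.exists_conj_H hmem hne
  refine ⟨g⁻¹ * h, ?_⟩
  calc g⁻¹ * h * K.J * (g⁻¹ * h)⁻¹ = g⁻¹ * (h * K.J * h⁻¹) * g := by group
    _ = u := by rw [he]; group

include K in
theorem exists_emb {u : G} (hu : orderOf u = 2) : ∃ ju : M4 →* G, Function.Injective ju ∧
    centralizer ({u} : Set G) = ju.range ∧ ju z0 = u := by
  obtain ⟨g, hg⟩ := K.invol_conj hu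
  refine ⟨(MulAut.conj g).toMonoidHom.comp K.j, (MulAut.conj g).injective.comp K.inj, ?_, hg⟩
  ext x
  rw [mem_centralizer_singleton_iff, MonoidHom.range_comp, ← K.range_eq, mem_map]
  constructor
  · intro hx
    refine ⟨g⁻¹ * x * g, mem_centralizer_singleton_iff.mpr ?_, by simp [mul_assoc]⟩
    calc g⁻¹ * x * g * K.J = g⁻¹ * (x * (g * K.J * g⁻¹)) * g := by group
      _ = g⁻¹ * (g * K.J * g⁻¹ * x) * g := by rw [hg, hx]
      _ = K.J * (g⁻¹ * x * g) := by group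
  · rintro ⟨y, hy, rfl⟩
    have hy' : y * K.J = K.J * y := mem_centralizer_singleton_iff.mp hy
    show g * y * g⁻¹ * u = u * (g * y * g⁻¹)
    rw [← hg, conj_mul, conj_mul, hy']

include K in
theorem seven_not_comm {q z : G} (hq : q ^ 7 = 1) (hz : orderOf z = 2) (h : q * z = z * q) : q = 1 := by
  obtain ⟨jz, hi, hr, -⟩ := K.exists_emb hz
  have hm : q ∈ centralizer ({z} : Set G) := mem_centralizer_singleton_iff.mpr h
  rw [hr] at hm
  obtain ⟨m, rfl⟩ := hm
  rw [no_seven m (hi (by rw [map_pow, hq, map_one])), map_one]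

theorem orderOf_two_of_mem {z : G} (hz : z ∈ (K.S : Subgroup G)) (hz1 : z ≠ 1) : orderOf z = 2 :=
  orderOf_eq_prime (by rw [pow_two]; exact K.sq_of_mem hz) hz1

theorem no_seven_three {a b : G} (hbH : b ∈ K.H) (ha : orderOf a = 7) (haH : a ∈ K.H)
    (hb : orderOf b = 3) : a * b ≠ b * a := by
  intro hab
  haveI : Fact (Nat.Prime 3) := ⟨by norm_num⟩
  have hbH' : orderOf (⟨b, hbH⟩ : K.H) = 3 := by rw [Subgroup.orderOf_mk, hb]
  have hp : IsPGroup 3 (zpowers (⟨b, hbH⟩ : K.H)) :=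
    IsPGroup.of_card (n := 1) (by rw [Nat.card_zpowers, hbH', pow_one])
  obtain ⟨z, hz⟩ := hp.nonempty_fixed_point_of_prime_not_dvd_card K.Pts (by rw [card_Pts]; norm_num)
  have hbz : ∀ w : K.Pts, (∀ y : zpowers (⟨b, hbH⟩ : K.H), y • w = w) → b * w.1 * b⁻¹ = w.1 := fun w hw =>
    congrArg Subtype.val (hw ⟨_, mem_zpowers _⟩)
  have hfix : ∀ i : ℕ, b * (a ^ i * z.1 * (a ^ i)⁻¹) * b⁻¹ = a ^ i * z.1 * (a ^ i)⁻¹ := by
    intro i
    have hc : Commute (a ^ i) b := Commute.pow_left hab i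
    calc b * (a ^ i * z.1 * (a ^ i)⁻¹) * b⁻¹ = (b * a ^ i) * z.1 * (b * a ^ i)⁻¹ := by group
      _ = (a ^ i * b) * z.1 * (a ^ i * b)⁻¹ := by rw [hc.eq]
      _ = a ^ i * (b * z.1 * b⁻¹) * (a ^ i)⁻¹ := by group
      _ = _ := by rw [hbz z hz]
  have hinj : Function.Injective fun i : Fin 7 =>
      (⟨a ^ i.1, pow_mem haH _⟩ : K.H) • z := by
    intro i i' e
    have e' : a ^ i.1 * z.1 * (a ^ i.1)⁻¹ = a ^ i'.1 * z.1 * (a ^ i'.1)⁻¹ := congrArg Subtype.val e
    set w := (a ^ i'.1)⁻¹ * a ^ i.1 with hw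
    have hwz : w * z.1 = z.1 * w := by
      calc w * z.1 = (a ^ i'.1)⁻¹ * (a ^ i.1 * z.1 * (a ^ i.1)⁻¹) * a ^ i.1 := by rw [hw]; group
        _ = z.1 * w := by rw [e', hw]; group
    have hw7 : w ^ 7 = 1 := by
      have ha7 : a ^ 7 = 1 := orderOf_dvd_iff_pow_eq_one.mp (ha ▸ dvd_rfl)
      rw [hw, ((Commute.refl a).pow_pow _ _).inv_left.mul_pow, inv_pow, ← pow_mul, ← pow_mul, mul_comm i'.1,
        mul_comm i.1, pow_mul, pow_mul, ha7, one_pow, one_pow, inv_one, one_mul]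
    have := K.seven_not_comm hw7 (K.orderOf_two_of_mem z.2.1 z.2.2) hwz
    rw [hw, inv_mul_eq_one, pow_inj_mod, ha] at this
    exact Fin.ext (by have := i.2; have := i'.2; omega)
  have hbij : Function.Bijective fun i : Fin 7 => (⟨a ^ i.1, pow_mem haH _⟩ : K.H) • z := by
    haveI := Fintype.ofFinite K.Pts
    rw [Fintype.bijective_iff_injective_and_card, ← Nat.card_eq_fintype_card (α := K.Pts), card_Pts]
    exact ⟨hinj, Fintype.card_fin 7⟩
  have hbS : b ∈ (K.S : Subgroup G) := by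
    refine K.mem_S_of_central fun w hw => ?_
    by_cases hw1 : w = 1
    · rw [hw1, one_mul, mul_one]
    obtain ⟨i, hi⟩ := hbij.2 ⟨w, hw, hw1⟩
    have e : a ^ i.1 * z.1 * (a ^ i.1)⁻¹ = w := congrArg Subtype.val hi
    have := hfix i.1
    rw [e] at this
    exact mul_inv_eq_iff_eq_mul.mp this
  have := K.sq_of_mem hbS
  rw [← pow_two] at this
  have := orderOf_dvd_of_pow_eq_one this
  rw [hb] at this
  norm_num at this

end Four

end CfsgLib.TwoTimesAlt.A4
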