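import Mathlib.GroupTheory.SpecificGroups.Alternating
import Mathlib.Data.ZMod.Basic
import Mathlib.SetTheory.Cardinal.Finite
import Mathlib.GroupTheory.OrderOfElement
import Mathlib.Tactic

/-!
# The group 2 × A₄
-/

set_option autoImplicit false
set_option maxRecDepth 8000
set_option synthInstance.maxSize 1000

namespace CfsgLib.TwoTimesAlt.A4

/-- The group `2 × A₄`. -/
abbrev M4 := Multiplicative (ZMod 2) × alternatingGroup (Fin 4)

/-- The central involution. -/
def z0 : M4 := (Multiplicative.ofAdd 1, 1)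

theorem card_M4 : Nat.card M4 = 24 := by
  rw [Nat.card_eq_fintype_card]; decide +kernel

theorem sq_mul : ∀ a b : M4, a * a = 1 → b * b = 1 → a * b * (a * b) = 1 := by decide +kernel

/-- The normal elementary abelian subgroup of order 8. -/
def E0 : Subgroup M4 where
  carrier := {m | m * m = 1}
  one_mem' := one_mul 1
  mul_mem' := fun {a b} ha hb => sq_mul a b ha hb
  inv_mem' := fun {a} ha => by
    show a⁻¹ * a⁻¹ = 1
    rw [← mul_inv_rev, ha, inv_one]

theorem mem_E0 {m : M4} : m ∈ E0 ↔ m * m = 1 := Iff.rfl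

theorem card_E0 : Nat.card E0 = 8 := by
  rw [Nat.subtype_card (Finset.univ.filter fun m : M4 => m * m = 1) (by simp [mem_E0])]
  decide +kernel

theorem z0_mem : z0 ∈ E0 := by
  show z0 * z0 = 1
  decide +kernel

theorem z0_ne : z0 ≠ 1 := by decide +kernel

theorem z0_comm : ∀ m : M4, m * z0 = z0 * m := by decide +kernel

theorem sq_of_pow_eight : ∀ m : M4, m ^ 8 = 1 → m * m = 1 := by decide +kernel

theorem self_centralizing : ∀ m : M4, (∀ a : M4, a * a = 1 → m * a = a * m) → m * m = 1 := by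
  decide +kernel

theorem no_seven : ∀ m : M4, m ^ 7 = 1 → m = 1 := by decide +kernel

theorem exists_three : ∃ m : M4, m ^ 3 = 1 ∧ m ≠ 1 := by decide +kernel

theorem cube_of_odd_order (m : M4) (h : Odd (orderOf m)) : m ^ 3 = 1 := by
  rw [← orderOf_dvd_iff_pow_eq_one]
  have h24 : orderOf m ∣ 8 * 3 := by
    have := orderOf_dvd_natCard m
    rwa [card_M4] at this
  refine Nat.Coprime.dvd_of_dvd_mul_left ?_ h24
  exact (Nat.Coprime.pow_right 3 (Nat.coprime_two_right.mpr h))

/-- An element of order 3. -/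
def m0 : M4 := (1, ⟨Equiv.swap 0 1 * Equiv.swap 1 2, Equiv.Perm.mem_alternatingGroup.mpr (by decide +kernel)⟩)

/-- An involution outside the centre. -/
def v0 : M4 := (1, ⟨Equiv.swap 0 1 * Equiv.swap 2 3, Equiv.Perm.mem_alternatingGroup.mpr (by decide +kernel)⟩)

/-- The seven involutions. -/
def eOf : Fin 7 → M4 :=
  ![z0, v0, m0 * v0 * m0⁻¹, m0 * m0 * v0 * (m0 * m0)⁻¹,
    z0 * v0, z0 * (m0 * v0 * m0⁻¹), z0 * (m0 * m0 * v0 * (m0 * m0)⁻¹)]

/-- The action of the element of order 3 on indices. -/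
def pc : Fin 7 → Fin 7 := ![0, 2, 3, 1, 5, 6, 4]

theorem eOf_spec : ∀ k, eOf k * eOf k = 1 ∧ eOf k ≠ 1 := by decide +kernel
theorem eOf_zero : eOf 0 = z0 := by decide +kernel
theorem eOf_injective : Function.Injective eOf := by decide +kernel
theorem exists_eOf : ∀ m : M4, m * m = 1 → m ≠ 1 → ∃ k, eOf k = m := by decide +kernel
theorem eOf_pc : ∀ k, eOf (pc k) = m0 * eOf k * m0⁻¹ := by decide +kernel

theorem orbit_index : ∀ O : Finset (Fin 7), 0 ∈ O → (∀ k ∈ O, pc k ∈ O) → O.card % 2 = 1 →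
    O.card ≠ 1 → O.card = 7 := by decide +kernel

/-- An invariant set of involutions of odd size with a non-central member consists of all of them. -/
theorem orbit_eq (O : Finset M4) (hsub : ∀ a ∈ O, a * a = 1 ∧ a ≠ 1) (hz : z0 ∈ O)
    (hinv : ∀ a ∈ O, m0 * a * m0⁻¹ ∈ O) (hodd : O.card % 2 = 1) (hne : O.card ≠ 1) : O.card = 7 := by
  have himg : (O.preimage eOf eOf_injective.injOn).card = O.card := by
    rw [Finset.card_preimage, Finset.filter_true_of_mem]
    intro a ha
    obtain ⟨h1, h2⟩ := hsub a ha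
    exact exists_eOf a h1 h2
  rw [← himg] at hodd hne ⊢
  refine orbit_index _ ?_ (fun k hk => ?_) hodd hne
  · rw [Finset.mem_preimage, eOf_zero]; exact hz
  · rw [Finset.mem_preimage] at hk ⊢
    rw [eOf_pc]; exact hinv _ hk

/-- The normaliser of a subgroup of order 3. -/
theorem norm_three : ∀ b c : M4, b ^ 3 = 1 → b ≠ 1 → (c * b * c⁻¹ = b ∨ c * b * c⁻¹ = b * b) →
    c = 1 ∨ c = b ∨ c = b * b ∨ c = z0 ∨ c = z0 * b ∨ c = z0 * (b * b) := by
  decide +kernel

end CfsgLib.TwoTimesAlt.A4
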