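import Cfsg.Agent.Lib.TwoTimesAlt.A4.Seven
import Mathlib.GroupTheory.SpecificGroups.ZGroup

/-!
# The order is 1512
-/

set_option autoImplicit false

namespace CfsgLib.TwoTimesAlt.A4

open Subgroup

namespace Four

variable {G : Type*} [Group G] [Finite G] (K : Four G)

theorem H_solvable : Group.IsSolvable K.H := by
  let Q : Subgroup K.H := (K.S : Subgroup G).subgroupOf K.H
  haveI hQn : Q.Normal := normal_subgroupOf_iff_le_normalizer K.S_le_H |>.mpr le_rfl
  have hQc : ∀ a b : Q, a * b = b * a := fun a b =>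
    Subtype.ext (Subtype.ext (K.comm_of_mem a.2 b.2))
  haveI : Group.IsSolvable Q := Group.isSolvable_of_comm hQc
  have hcard : Nat.card (K.H ⧸ Q) = 21 := by
    have h := card_eq_card_quotient_mul_card_subgroup Q
    rw [card_H, Nat.card_congr (subgroupOfEquivOfLe K.S_le_H).toEquiv, card_S] at h
    omega
  haveI : IsZGroup (K.H ⧸ Q) := IsZGroup.of_squarefree (by
    rw [hcard, show (21 : ℕ) = 3 * 7 from rfl, Nat.squarefree_mul (by norm_num)]
    exact ⟨Nat.prime_three.prime.squarefree, (by norm_num : Nat.Prime 7).prime.squarefree⟩)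
  exact Group.isSolvable_of_ker_le_range Q.subtype (QuotientGroup.mk' Q)
    (by rw [QuotientGroup.ker_mk', range_subtype])

theorem exists_point : ∃ p : G ⧸ K.H, p ≠ K.base := by
  by_contra h
  push Not at h
  have htop : K.H = ⊤ := eq_top_iff.mpr fun g _ => (K.smul_base_iff g).mp (h _)
  haveI := K.H_solvable
  refine K.hns (Group.isSolvable_of_isSolvable_injective
    (f := (MonoidHom.id G).codRestrict K.H (fun g => htop ▸ mem_top g)) ?_)
  exact fun a b e => congrArg Subtype.val e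

/-- Standard elements attached to a subgroup of order 7. -/
structure Frame where
  q : G
  u : G
  c : G
  q_mem : q ∈ K.H
  q_ord : orderOf q = 7
  u_ord : orderOf u = 2
  u_not : u ∉ K.H
  q_fix : q • u • K.base = u • K.base
  u_inv : u * q * u⁻¹ = q⁻¹
  c_mem : c ∈ K.H
  c_ord : orderOf c = 3
  c_conj : c * q * c⁻¹ = q ^ 2

theorem exists_frame : Nonempty K.Frame := by
  obtain ⟨p, hp⟩ := K.exists_point
  obtain ⟨u, q, hu, hup, hq, hqD, huq⟩ := K.exists_swap hp
  obtain ⟨c, hcH, hc, hcq⟩ := K.exists_three hqD.1 hq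
  exact ⟨⟨q, u, c, hqD.1, hq, hu, fun h => hp (hup ▸ (K.smul_base_iff u).mpr h),
    by rw [hup]; exact hqD.2, huq, hcH, hc, hcq⟩⟩

namespace Frame

variable {K} (F : K.Frame)

/-- The centraliser of the element of order 7. -/
def A : Subgroup G := centralizer ({F.q} : Set G)

/-- The normaliser of the subgroup of order 7. -/
def N : Subgroup G := normalizer (zpowers F.q : Set G)

theorem mem_A {a : G} : a ∈ F.A ↔ a * F.q = F.q * a := mem_centralizer_singleton_iff

theorem mem_N_of {x : G} (h : x * F.q * x⁻¹ ∈ zpowers F.q) : x ∈ F.N := mem_normalizer_zpowers h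

theorem conj_q {x : G} (hx : x ∈ F.N) : x * F.q * x⁻¹ ∈ zpowers F.q :=
  (mem_normalizer_iff.mp hx F.q).mp (mem_zpowers _)

theorem A_le_N : F.A ≤ F.N := fun a ha => F.mem_N_of (by
  rw [mul_inv_eq_iff_eq_mul.mpr (F.mem_A.mp ha)]; exact mem_zpowers _)

theorem A_inv {a : G} (ha : a ∈ F.A) : F.u * a * F.u⁻¹ = a⁻¹ :=
  K.inv_of_cent F.q_ord F.u_ord F.u_inv F.c_conj (F.mem_A.mp ha)

theorem A_comm {a b : G} (ha : a ∈ F.A) (hb : b ∈ F.A) : a * b = b * a := by
  have h1 := F.A_inv (mul_mem ha hb)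
  rw [← conj_mul, F.A_inv ha, F.A_inv hb] at h1
  calc a * b = ((a * b)⁻¹)⁻¹ := (inv_inv _).symm
    _ = (a⁻¹ * b⁻¹)⁻¹ := by rw [h1]
    _ = b * a := by group

theorem card_N : Nat.card F.N = 6 * Nat.card F.A := by
  classical
  let Y := {y : zpowers F.q // y ≠ 1}
  have hY : Nat.card Y = 6 := by
    haveI := Fintype.ofFinite (zpowers F.q)
    rw [Nat.card_eq_fintype_card, Fintype.card_subtype_compl, Fintype.card_subtype_eq,
      ← Nat.card_eq_fintype_card, Nat.card_zpowers, F.q_ord]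
  have hne : ∀ x : G, x * F.q * x⁻¹ ≠ 1 := fun x h => by
    have h' := F.q_ord
    rw [conj_eq_one_iff.mp h, orderOf_one] at h'
    norm_num at h'
  let f : F.N ⧸ F.A.subgroupOf F.N → Y :=
    Quotient.lift (fun x => ⟨⟨(x : G) * F.q * (x : G)⁻¹, F.conj_q x.2⟩,
      fun h => hne x (congrArg Subtype.val h)⟩)
      (fun a b h => Subtype.ext (Subtype.ext (by
        have h' : (a : G)⁻¹ * b * F.q = F.q * ((a : G)⁻¹ * b) :=
          F.mem_A.mp (mem_subgroupOf.mp (QuotientGroup.leftRel_apply.mp h))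
        calc (a : G) * F.q * (a : G)⁻¹ = a * (F.q * ((a : G)⁻¹ * b)) * (b : G)⁻¹ := by group
          _ = a * ((a : G)⁻¹ * b * F.q) * (b : G)⁻¹ := by rw [h']
          _ = b * F.q * (b : G)⁻¹ := by group)))
  have hf : Function.Bijective f := by
    constructor
    · intro x y
      refine QuotientGroup.induction_on x fun a => QuotientGroup.induction_on y fun b h => ?_
      have h' : (a : G) * F.q * (a : G)⁻¹ = b * F.q * (b : G)⁻¹ :=
        congrArg (fun z : Y => ((z.1 : G))) h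
      refine QuotientGroup.eq.mpr (mem_subgroupOf.mpr (F.mem_A.mpr ?_))
      push_cast
      calc (a : G)⁻¹ * b * F.q = (a : G)⁻¹ * (b * F.q * (b : G)⁻¹) * b := by group
        _ = (a : G)⁻¹ * (a * F.q * (a : G)⁻¹) * b := by rw [h']
        _ = F.q * ((a : G)⁻¹ * b) := by group
    · rintro ⟨⟨y, hy⟩, hy1⟩
      suffices ∃ x : G, x * F.q * x⁻¹ = y by
        obtain ⟨x, hx⟩ := this
        exact ⟨QuotientGroup.mk ⟨x, F.mem_N_of (hx ▸ hy)⟩, Subtype.ext (Subtype.ext hx)⟩
      obtain ⟨i, hi, rfl⟩ := zpowers_seven F.q_ord hy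
      have h2 : ∀ x r, x * F.q * x⁻¹ = F.q ^ r →
          (F.c * x) * F.q * (F.c * x)⁻¹ = F.q ^ (2 * r) := by
        intro x r h
        rw [show F.c * x * F.q * (F.c * x)⁻¹ = F.c * (x * F.q * x⁻¹) * F.c⁻¹ by group, h, ← conj_pow,
          F.c_conj, ← pow_mul]
      have hu : F.u * F.q * F.u⁻¹ = F.q ^ 6 := by
        rw [F.u_inv, inv_eq_iff_mul_eq_one, ← pow_succ']
        rw [show 6 + 1 = orderOf F.q from F.q_ord.symm, pow_orderOf_eq_one]
      have h1 : (1 : G) * F.q * 1⁻¹ = F.q ^ 1 := by group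
      interval_cases i
      · exact absurd (Subtype.ext (pow_zero _)) hy1
      · exact ⟨_, h1⟩
      · exact ⟨_, h2 _ _ h1⟩
      · refine ⟨_, (h2 _ _ (h2 _ _ hu)).trans ?_⟩
        rw [pow_inj_mod, F.q_ord]
      · exact ⟨_, h2 _ _ (h2 _ _ h1)⟩
      · refine ⟨_, (h2 _ _ hu).trans ?_⟩
        rw [pow_inj_mod, F.q_ord]
      · exact ⟨_, hu⟩
  have hidx : (F.A.subgroupOf F.N).index = 6 := by
    rw [Subgroup.index, Nat.card_congr (Equiv.ofBijective f hf), hY]
  have h := card_mul_index (F.A.subgroupOf F.N)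
  rw [hidx, Nat.card_congr (subgroupOfEquivOfLe F.A_le_N).toEquiv] at h
  omega

theorem mem_fix_iff (p : G ⧸ K.H) : F.q • p = p ↔ ∃ x ∈ F.N, x • K.base = p := by
  induction p using QuotientGroup.induction_on with
  | _ g =>
  constructor
  · intro h
    rw [SEmb.smul_mk_eq_iff] at h
    have ho : orderOf (g⁻¹ * F.q * g) = 7 := by
      rw [show g⁻¹ * F.q * g = MulAut.conj g⁻¹ F.q by simp, MulEquiv.orderOf_eq, F.q_ord]
    obtain ⟨k, hk, hconj⟩ := K.conj_seven h ho F.q_mem F.q_ord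
    refine ⟨g * k⁻¹, ?_, ?_⟩
    · refine inv_mem_iff.mp (F.mem_N_of ?_)
      rw [show (g * k⁻¹)⁻¹ * F.q * ((g * k⁻¹)⁻¹)⁻¹ = k * (g⁻¹ * F.q * g) * k⁻¹ by group]
      exact hconj
    · rw [mul_smul, (K.smul_base_iff k⁻¹).mpr (inv_mem hk)]
      show QuotientGroup.mk (g * 1) = _
      rw [mul_one]
  · rintro ⟨x, hx, he⟩
    rw [← he, ← mul_smul]
    have h1 : x⁻¹ * F.q * x⁻¹⁻¹ ∈ zpowers F.q := F.conj_q (inv_mem hx)
    rw [inv_inv] at h1
    rw [show F.q * x = x * (x⁻¹ * F.q * x) by group, mul_smul,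
      (K.smul_base_iff _).mpr (zpowers_le.mpr F.q_mem h1)]

theorem card_fix : Nat.card {p : G ⧸ K.H // F.q • p = p} * 21 = Nat.card F.N := by
  have horb : MulAction.orbit F.N K.base = {p | F.q • p = p} := by
    ext p
    rw [Set.mem_setOf_eq, F.mem_fix_iff]
    exact ⟨fun ⟨x, hx⟩ => ⟨x, x.2, hx⟩, fun ⟨x, hx, he⟩ => ⟨⟨x, hx⟩, he⟩⟩
  have hst : MulAction.stabilizer F.N K.base = (K.H ⊓ F.N).subgroupOf F.N := by
    ext x
    show x • K.base = K.base ↔ (x : G) ∈ K.H ⊓ F.N
    rw [show x • K.base = (x : G) • K.base from rfl, K.smul_base_iff]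
    exact ⟨fun h => Subgroup.mem_inf.mpr ⟨h, x.2⟩, fun h => (Subgroup.mem_inf.mp h).1⟩
  have h := card_mul_index (MulAction.stabilizer F.N K.base)
  rw [MulAction.index_stabilizer, horb, hst,
    Nat.card_congr (subgroupOfEquivOfLe (inf_le_right : K.H ⊓ F.N ≤ F.N)).toEquiv] at h
  rw [show Nat.card (K.H ⊓ F.N : Subgroup G) = 21 from K.card_NH F.q_mem F.q_ord,
    ← Nat.card_coe_set_eq] at h
  simp only [Set.coe_setOf] at h
  omega

theorem index_B : ((K.H ⊓ F.N).subgroupOf K.H).index = 8 := by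
  have h := card_mul_index ((K.H ⊓ F.N).subgroupOf K.H)
  rw [Nat.card_congr (subgroupOfEquivOfLe (inf_le_left : K.H ⊓ F.N ≤ K.H)).toEquiv, card_H,
    show Nat.card (K.H ⊓ F.N : Subgroup G) = 21 from K.card_NH F.q_mem F.q_ord] at h
  omega

theorem card_points : Nat.card {p : G ⧸ K.H // p ≠ K.base} =
    8 * Nat.card {p : G ⧸ K.H // F.q • p = p ∧ p ≠ K.base} := by
  let B := (K.H ⊓ F.N).subgroupOf K.H
  rw [← F.index_B, Subgroup.index, ← Nat.card_prod]
  let φ : (K.H ⧸ B) × {p : G ⧸ K.H // F.q • p = p ∧ p ≠ K.base} → {p : G ⧸ K.H // p ≠ K.base} :=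
    fun x => ⟨(x.1.out : G) • x.2.1, fun h => x.2.2.2
      (MulAction.injective _ (h.trans ((K.smul_base_iff (x.1.out : G)).mpr x.1.out.2).symm))⟩
  -- conjugates fixing the same point differ by an element of the normaliser
  have key : ∀ (a b : K.H) (r : G ⧸ K.H), r ≠ K.base → ((a : G) * F.q * (a : G)⁻¹) • r = r →
      ((b : G) * F.q * (b : G)⁻¹) • r = r → a⁻¹ * b ∈ B := by
    intro a b r hr ha hb
    have hm : ∀ h : K.H, ((h : G) * F.q * (h : G)⁻¹) • r = r →
        (h : G) * F.q * (h : G)⁻¹ ∈ K.D r := fun h hh =>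
      Subgroup.mem_inf.mpr ⟨mul_mem (mul_mem h.2 F.q_mem) (inv_mem h.2), hh⟩
    have ho : ∀ h : G, orderOf (h * F.q * h⁻¹) = 7 := fun h => by
      rw [← MulAut.conj_apply, MulEquiv.orderOf_eq, F.q_ord]
    obtain ⟨i, hi⟩ := mem_zpowers_of_seven (K.D r) (K.card_D_dvd hr) (hm a ha) (hm b hb) (ho a) (ho b)
    refine mem_subgroupOf.mpr ⟨(a⁻¹ * b).2, F.mem_N_of ⟨i, ?_⟩⟩
    have hi' : (a : G) * F.q ^ i * (a : G)⁻¹ = (b : G) * F.q * (b : G)⁻¹ := by
      rw [← conj_zpow]; exact hi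
    push_cast
    calc F.q ^ i = (a : G)⁻¹ * ((a : G) * F.q ^ i * (a : G)⁻¹) * a := by group
      _ = (a : G)⁻¹ * ((b : G) * F.q * (b : G)⁻¹) * a := by rw [hi']
      _ = _ := by group
  have hfix : ∀ (h : K.H) (p : G ⧸ K.H), F.q • p = p →
      ((h : G) * F.q * (h : G)⁻¹) • ((h : G) • p) = (h : G) • p := by
    intro h p hp
    rw [smul_smul, inv_mul_cancel_right, mul_smul, hp]
  refine (Nat.card_congr (Equiv.ofBijective φ ⟨?_, ?_⟩)).symm
  · rintro ⟨x, p⟩ ⟨y, p'⟩ e
    have e' : (x.out : G) • p.1 = (y.out : G) • p'.1 := congrArg Subtype.val e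
    have hxy : x = y := by
      rw [← x.out_eq', ← y.out_eq']
      refine QuotientGroup.eq.mpr (key _ _ _ (φ (x, p)).2 (hfix _ _ p.2.1) ?_)
      show _ • (x.out : G) • p.1 = (x.out : G) • p.1
      rw [e']; exact hfix _ _ p'.2.1
    subst hxy
    exact Prod.ext rfl (Subtype.ext (MulAction.injective _ e'))
  · rintro ⟨r, hr⟩
    obtain ⟨v, w, -, -, hw, hwD, -⟩ := K.exists_swap hr
    obtain ⟨k, hk, hconj⟩ := K.conj_seven F.q_mem F.q_ord hwD.1 hw
    have hkr : (k * F.q * k⁻¹) • r = r := (zpowers_le.mpr hwD.2) hconj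
    obtain ⟨b, hb⟩ : ∃ b : B, (QuotientGroup.mk (⟨k, hk⟩ : K.H) : K.H ⧸ B).out = ⟨k, hk⟩ * b :=
      QuotientGroup.mk_out_eq_mul B _
    set x : K.H ⧸ B := QuotientGroup.mk (⟨k, hk⟩ : K.H) with hx
    have hbN : ((b : K.H) : G) ∈ F.N := (mem_subgroupOf.mp b.2).2
    have hout : (x.out : G) = k * ((b : K.H) : G) := congrArg Subtype.val hb
    refine ⟨(x, ⟨(x.out : G)⁻¹ • r, ?_, ?_⟩), ?_⟩
    · have h1 : ((b : K.H) : G) * F.q * ((b : K.H) : G)⁻¹ ∈ zpowers F.q := F.conj_q hbN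
      have h2 : ((x.out : G) * F.q * (x.out : G)⁻¹) • r = r := by
        obtain ⟨i, hi⟩ := h1
        rw [hout, show k * ((b : K.H) : G) * F.q * (k * ((b : K.H) : G))⁻¹ =
          k * (((b : K.H) : G) * F.q * ((b : K.H) : G)⁻¹) * k⁻¹ by group]
        have hi' : F.q ^ i = ((b : K.H) : G) * F.q * ((b : K.H) : G)⁻¹ := hi
        rw [← hi', ← conj_zpow]
        exact zpow_mem (show k * F.q * k⁻¹ ∈ MulAction.stabilizer G r from hkr) i
      conv_rhs => rw [← h2]
      rw [smul_smul, smul_smul]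
      congr 1
      group
    · intro h
      rw [inv_smul_eq_iff, (K.smul_base_iff _).mpr x.out.2] at h
      exact hr h
    · exact Subtype.ext (smul_inv_smul _ _)

theorem base_fix : F.q • K.base = K.base := (K.smul_base_iff _).mpr F.q_mem

theorem arith : ∃ a, Nat.card F.A = 7 * a ∧ Nat.card G = 168 * K.H.index ∧
    Nat.card {p : G ⧸ K.H // F.q • p = p} = 2 * a ∧ K.H.index + 7 = 16 * a ∧ a % 2 = 1 ∧ a ∣ 28 := by
  classical
  haveI := Fintype.ofFinite (G ⧸ K.H)
  have hA : 7 ∣ Nat.card F.A := by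
    rw [← F.q_ord, ← Nat.card_zpowers]
    exact card_dvd_of_le (zpowers_le.mpr (F.mem_A.mpr rfl))
  obtain ⟨a, ha⟩ := hA
  have hn := card_mul_index K.H
  rw [card_H] at hn
  have hN := F.card_N
  have hfix := F.card_fix
  have hodd : Odd (Nat.card F.A) := K.card_cent_odd F.q_ord
  have h1 : Nat.card {p : G ⧸ K.H // p ≠ K.base} + 1 = K.H.index := by
    rw [Nat.card_eq_fintype_card, Fintype.card_subtype_compl, Fintype.card_subtype_eq, Subgroup.index,
      Nat.card_eq_fintype_card]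
    have : 0 < Fintype.card (G ⧸ K.H) := Fintype.card_pos
    omega
  have h2 : Nat.card {p : G ⧸ K.H // F.q • p = p ∧ p ≠ K.base} + 1 =
      Nat.card {p : G ⧸ K.H // F.q • p = p} := by
    rw [← Nat.card_congr (Equiv.subtypeSubtypeEquivSubtypeInter (fun p : G ⧸ K.H => F.q • p = p)
      (fun p => p ≠ K.base)), Nat.card_eq_fintype_card, Nat.card_eq_fintype_card]
    have he : Fintype.card {x : {p : G ⧸ K.H // F.q • p = p} // x.1 ≠ K.base} =
        Fintype.card {x : {p : G ⧸ K.H // F.q • p = p} // x ≠ ⟨K.base, F.base_fix⟩} :=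
      Fintype.card_congr (Equiv.subtypeEquivRight fun x => by rw [ne_eq, ne_eq, Subtype.ext_iff])
    rw [he, Fintype.card_subtype_compl, Fintype.card_subtype_eq]
    have : 0 < Fintype.card {p : G ⧸ K.H // F.q • p = p} := Fintype.card_pos_iff.mpr ⟨⟨_, F.base_fix⟩⟩
    omega
  have h3 := F.card_points
  have hfix' : Nat.card {p : G ⧸ K.H // F.q • p = p} = 2 * a := by omega
  refine ⟨a, ha, hn.symm, hfix', by omega, ?_, ?_⟩
  · rw [ha, Nat.odd_mul] at hodd
    exact Nat.odd_iff.mp hodd.2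
  · have hd := card_subgroup_dvd_card F.N
    rw [hN, ha, ← hn] at hd
    have hd' : 42 * a ∣ 168 * (K.H.index + 7) := by
      refine ⟨64, ?_⟩
      rw [show K.H.index + 7 = 16 * a by omega]
      ring
    have h4 : 42 * a ∣ 42 * 28 := by
      rw [show 6 * (7 * a) = 42 * a by ring] at hd
      have := Nat.dvd_sub hd' hd
      rwa [show 168 * (K.H.index + 7) - 168 * K.H.index = 42 * 28 by omega] at this
    exact Nat.dvd_of_mul_dvd_mul_left (by norm_num) h4

include F in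
theorem index_ne : K.H.index ≠ 105 := by
  intro hk
  obtain ⟨a, ha, hn, -, hk16, -, -⟩ := F.arith
  have hA : Nat.card F.A = 7 ^ 2 := by omega
  haveI : Fact (Nat.Prime 7) := ⟨by norm_num⟩
  obtain ⟨P, hP⟩ := (IsPGroup.of_card hA).exists_le_sylow
  have hPA : F.A = (P : Subgroup G) := by
    refine eq_of_le_of_card_ge hP ?_
    obtain ⟨n, hn'⟩ := P.isPGroup'.exists_card_eq
    have hd := card_subgroup_dvd_card (P : Subgroup G)
    rw [hn', hn, hk] at hd
    rw [hn', hA]
    refine Nat.pow_le_pow_right (by norm_num) ?_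
    by_contra h
    have := (pow_dvd_pow 7 (show 3 ≤ n by omega)).trans hd
    norm_num at this
  set M : Subgroup G := normalizer (P : Set G) with hM
  have hNM : F.N ≤ M := by
    intro x hx
    rw [hM, show (P : Set G) = ((F.A : Subgroup G) : Set G) by rw [hPA]; rfl]
    refine mem_normalizer_iff.mpr fun y => ?_
    have key : ∀ z ∈ F.N, ∀ y ∈ F.A, z * y * z⁻¹ ∈ F.A := by
      intro z hz y hy
      obtain ⟨i, hi⟩ := F.conj_q (inv_mem hz)
      rw [inv_inv] at hi
      have hi' : F.q ^ i = z⁻¹ * F.q * z := hi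
      have hc : Commute y (F.q ^ i) := (show Commute y F.q from F.mem_A.mp hy).zpow_right i
      refine F.mem_A.mpr ?_
      calc z * y * z⁻¹ * F.q = z * (y * (z⁻¹ * F.q * z)) * z⁻¹ := by group
        _ = z * ((z⁻¹ * F.q * z) * y) * z⁻¹ := by rw [← hi', hc.eq]
        _ = F.q * (z * y * z⁻¹) := by group
    refine ⟨key x hx y, fun h => ?_⟩
    have := key x⁻¹ (inv_mem hx) _ h
    rwa [show x⁻¹ * (x * y * x⁻¹) * x⁻¹⁻¹ = y by group] at this
  have hdiv : 294 ∣ Nat.card M := by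
    have := card_dvd_of_le hNM
    rwa [F.card_N, hA] at this
  have h4 : 4 ∣ Nat.card M := by
    have hmod := card_sylow_modEq_one 7 G
    have hidx := Sylow.card_eq_index_normalizer P
    rw [hidx, ← hM] at hmod
    have hmul := card_mul_index M
    rw [hn, hk] at hmul
    obtain ⟨d, hd⟩ := hdiv
    rw [hd] at hmul ⊢
    have hdd : d ∣ 60 := ⟨M.index,
      Nat.eq_of_mul_eq_mul_left (show 0 < 294 by norm_num) (by rw [← mul_assoc, hmul])⟩
    have hdle := Nat.le_of_dvd (by norm_num) hdd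
    unfold Nat.ModEq at hmod
    interval_cases d <;> omega
  haveI : Fact (Nat.Prime 2) := ⟨Nat.prime_two⟩
  obtain ⟨V, hV⟩ := Sylow.exists_subgroup_card_pow_prime (G := M) 2 (n := 2) (by simpa using h4)
  have hinv : ∀ z ∈ V, z ≠ 1 → orderOf (z : G) = 2 := by
    intro z hz hz1
    have hp : IsPGroup 2 (zpowers (z : G)) := by
      obtain ⟨m, -, hm⟩ := (Nat.dvd_prime_pow Nat.prime_two).mp
        (hV ▸ orderOf_dvd_natCard (⟨z, hz⟩ : V))
      refine IsPGroup.of_card (n := m) ?_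
      rw [Nat.card_zpowers, ← hm, Subgroup.orderOf_mk, Subgroup.orderOf_coe]
    obtain ⟨Q, hQ⟩ := hp.exists_le_sylow
    obtain ⟨g, hg⟩ := MulAction.exists_smul_eq G Q K.S
    have hm : g * z * g⁻¹ ∈ (K.S : Subgroup G) := by
      rw [← hg, Sylow.coe_subgroup_smul]
      exact Subgroup.smul_mem_pointwise_smul _ (MulAut.conj g) _ (hQ (mem_zpowers _))
    refine orderOf_eq_prime ?_ fun h => hz1 (Subtype.ext h)
    have := K.sq_of_mem hm
    rw [conj_mul, conj_eq_one_iff] at this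
    rwa [pow_two]
  have hact : ∀ z ∈ V, z ≠ 1 → ∀ y ∈ F.A, (z : G) * y * (z : G)⁻¹ = y⁻¹ := by
    intro z hz hz1 y hy
    have hz2 := hinv z hz hz1
    have hzA : ∀ w ∈ F.A, (z : G) * w * (z : G)⁻¹ ∈ F.A := by
      intro w hw
      rw [hPA] at hw ⊢
      exact (mem_normalizer_iff.mp z.2 w).mp hw
    let φ : F.A →* F.A := MonoidHom.mk' (fun w => ⟨z * w * (z : G)⁻¹, hzA w w.2⟩) fun a b =>
      Subtype.ext (by show (z : G) * (a * b : G) * (z : G)⁻¹ = z * a * (z : G)⁻¹ * (z * b * (z : G)⁻¹); group)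
    have hfpf : MonoidHom.FixedPointFree φ := by
      intro w hw
      have hc : (z : G) * w = w * z := mul_inv_eq_iff_eq_mul.mp (congrArg Subtype.val hw)
      obtain ⟨jz, hji, hjr, -⟩ := K.exists_emb hz2
      obtain ⟨m, hm⟩ : (w : G) ∈ jz.range := hjr ▸ mem_centralizer_singleton_iff.mpr hc.symm
      have h49 : m ^ 49 = 1 := hji (by
        rw [map_pow, hm, map_one, show (49 : ℕ) = Nat.card F.A by rw [hA]; rfl]
        exact congrArg Subtype.val (pow_card_eq_one' (x := w)))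
      have h7 : m ^ 7 = 1 := no_seven (m ^ 7) (by rw [← pow_mul]; exact h49)
      exact Subtype.ext (by rw [← hm, no_seven m h7, map_one]; rfl)
    have hinvol : Function.Involutive φ := fun w => Subtype.ext (by
      show (z : G) * ((z : G) * w * (z : G)⁻¹) * (z : G)⁻¹ = w
      calc (z : G) * ((z : G) * w * (z : G)⁻¹) * (z : G)⁻¹ = z * z * w * ((z : G) * z)⁻¹ := by group
        _ = w := by rw [sq_of_two hz2, one_mul, inv_one, mul_one])
    exact congrArg Subtype.val (congrFun (hfpf.coe_eq_inv_of_involutive hinvol) ⟨y, hy⟩)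
  classical
  haveI := Fintype.ofFinite V
  obtain ⟨⟨z, hz⟩, hz1⟩ := Fintype.exists_ne_of_one_lt_card
    (by rw [← Nat.card_eq_fintype_card, hV]; norm_num) (1 : V)
  obtain ⟨⟨w, hw⟩, hwz⟩ : ∃ w : V, w ≠ 1 ∧ w ≠ ⟨z, hz⟩ := by
    by_contra h
    push Not at h
    have : Fintype.card V ≤ ({1, ⟨z, hz⟩} : Finset V).card := by
      rw [← Finset.card_univ]
      refine Finset.card_le_card fun x _ => ?_
      by_cases hx : x = 1
      · simp [hx]
      · simp [h x hx]
    have := this.trans Finset.card_le_two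
    rw [← Nat.card_eq_fintype_card, hV] at this
    norm_num at this
  have hz1' : z ≠ 1 := fun h => hz1 (Subtype.ext h)
  have hw1' : w ≠ 1 := fun h => hwz.1 (Subtype.ext h)
  have hzw : z * w ≠ 1 := fun h => hwz.2 (Subtype.ext (by
    have h2 := sq_of_two (hinv z hz hz1')
    have h3 : z * z = 1 := Subtype.ext h2
    exact mul_left_cancel (h.trans h3.symm)))
  have h3 := hact (z * w) (mul_mem hz hw) hzw F.q (F.mem_A.mpr rfl)
  have e1 := hact z hz hz1' F.q (F.mem_A.mpr rfl)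
  have e2 := hact w hw hw1' F.q (F.mem_A.mpr rfl)
  push_cast at h3
  rw [show (z : G) * w * F.q * ((z : G) * w)⁻¹ = z * (w * F.q * (w : G)⁻¹) * (z : G)⁻¹ by group, e2,
    ← conj_inv, e1, inv_inv] at h3
  have : F.q * F.q = 1 := by
    nth_rw 1 [h3]; exact inv_mul_cancel _
  rw [← pow_two] at this
  have := orderOf_dvd_of_pow_eq_one this
  rw [F.q_ord] at this
  norm_num at this

theorem card_eq : Nat.card G = 1512 ∧ Nat.card {p : G ⧸ K.H // F.q • p = p} = 2 ∧
    Nat.card F.A = 7 := by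
  obtain ⟨a, ha, hn, hfix, hk, hodd, h28⟩ := F.arith
  have hle := Nat.le_of_dvd (by norm_num) h28
  have hne := F.index_ne
  obtain rfl : a = 1 := by interval_cases a <;> omega
  exact ⟨by omega, by omega, by omega⟩

end Frame

end Four

end CfsgLib.TwoTimesAlt.A4
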