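import Cfsg.Agent.Lib.TwoTimesAlt.A4.Coords

/-!
# The permutation representation and a normal subgroup of index 3
-/

set_option autoImplicit false

namespace CfsgLib.TwoTimesAlt.A4

open Subgroup

namespace Four

variable {G : Type*} [Group G] [Finite G] {K : Four G}

namespace Coords

variable (C : K.Coords) (h13 : C.Rel 1 3)

/-- The nine points. -/
def pt (i : Fin 9) : G ⧸ K.H :=
  if i.val < 7 then C.e i.val • C.x • K.base else if i.val = 7 then C.x • K.base else K.base

theorem o_ne : C.x • K.base ≠ K.base := fun h => C.x_not ((K.smul_base_iff _).mp h)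

theorem e_fix (n : ℕ) : C.e n • K.base = K.base := (K.smul_base_iff _).mpr (K.S_le_H (C.e_mem n))

theorem invol_o {z : G} (hz : z ∈ (K.S : Subgroup G)) (hz1 : z ≠ 1) :
    z • C.x • K.base ≠ C.x • K.base := fun h =>
  C.o_ne (K.point_unique (K.orderOf_two_of_mem hz hz1) h ((K.smul_base_iff z).mpr (K.S_le_H hz)))

theorem pt_injective : Function.Injective C.pt := by
  have h1 : ∀ n m : ℕ, C.e n • C.x • K.base = C.e m • C.x • K.base → n % 7 = m % 7 := by
    intro n m h
    apply C.e_inj
    by_contra hne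
    refine C.invol_o (mul_mem (C.e_mem m) (C.e_mem n)) (fun e => hne ?_) ?_
    · exact mul_left_cancel (e.trans (K.sq_of_mem (C.e_mem m)).symm)
    · rw [mul_smul, h, smul_smul, K.sq_of_mem (C.e_mem m), one_smul]
  have h2 : ∀ n : ℕ, C.e n • C.x • K.base ≠ C.x • K.base := fun n => C.invol_o (C.e_mem n) (C.e_ne n)
  have h3 : ∀ n : ℕ, C.e n • C.x • K.base ≠ K.base := fun n h =>
    C.o_ne (MulAction.injective (C.e n) (h.trans (C.e_fix n).symm))
  intro i j h
  have hi := i.2
  have hj := j.2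
  unfold pt at h
  apply Fin.ext
  split_ifs at h with a b c d e f g k
  all_goals first
    | (have := h1 _ _ h; omega)
    | exact absurd h (h2 _)
    | exact absurd h.symm (h2 _)
    | exact absurd h (h3 _)
    | exact absurd h.symm (h3 _)
    | exact absurd h C.o_ne
    | exact absurd h.symm C.o_ne
    | omega

include C in
theorem index_H : Nat.card (G ⧸ K.H) = 9 := by
  have h := card_mul_index K.H
  rw [card_H, C.card_G, Subgroup.index] at h
  omega

theorem pt_bijective : Function.Bijective C.pt := by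
  haveI := Fintype.ofFinite (G ⧸ K.H)
  rw [Fintype.bijective_iff_injective_and_card]
  exact ⟨C.pt_injective, by rw [Fintype.card_fin, ← Nat.card_eq_fintype_card, C.index_H]⟩

/-- The permutation representation. -/
noncomputable def phi : G →* Equiv.Perm (Fin 9) :=
  ((Equiv.ofBijective C.pt C.pt_bijective).symm.permCongrHom.toMonoidHom).comp
    (MulAction.toPermHom G (G ⧸ K.H))

theorem phi_eq {g : G} {σ : Equiv.Perm (Fin 9)} (h : ∀ i, g • C.pt i = C.pt (σ i)) : C.phi g = σ := by
  refine Equiv.ext fun i => C.pt_injective ?_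
  rw [← h i]
  simp only [phi, MonoidHom.coe_comp, MulEquiv.coe_toMonoidHom, Function.comp_apply]
  exact (Equiv.ofBijective C.pt C.pt_bijective).apply_symm_apply _

theorem pt_lt {n : ℕ} (hn : n < 9) (h : n < 7) : C.pt ⟨n, hn⟩ = C.e n • C.x • K.base := if_pos h

theorem phi_q : C.phi C.q = Line.qp := by
  refine C.phi_eq fun i => ?_
  have hqb : C.q • K.base = K.base := (K.smul_base_iff _).mpr C.q_mem
  have h : ∀ n m : ℕ, (1 + n) % 7 = m % 7 →
      C.q • C.e n • C.x • K.base = C.e m • C.x • K.base := by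
    intro n m hnm
    rw [← C.e_congr hnm, ← C.q_e 1 n, pow_one, mul_smul, mul_smul]
    congr 2
    exact (inv_smul_eq_iff.mpr C.q_o.symm).symm
  fin_cases i <;> first
    | exact h _ _ rfl
    | exact C.q_o
    | exact hqb

theorem phi_c : C.phi C.c = Line.cp := by
  refine C.phi_eq fun i => ?_
  have hcb : C.c • K.base = K.base := (K.smul_base_iff _).mpr C.c_mem
  have h : ∀ n m : ℕ, (2 * n) % 7 = m % 7 →
      C.c • C.e n • C.x • K.base = C.e m • C.x • K.base := by
    intro n m hnm
    rw [← C.e_congr hnm, ← C.c_e, mul_smul, mul_smul]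
    congr 2
    exact (inv_smul_eq_iff.mpr C.c_o.symm).symm
  fin_cases i <;> first
    | exact h _ _ rfl
    | exact C.c_o
    | exact hcb

include h13 in
theorem phi_J : C.phi C.J = Line.Jp := by
  refine C.phi_eq fun i => ?_
  have hJb : C.J • K.base = K.base := (K.smul_base_iff _).mpr (K.S_le_H C.J_mem)
  have h : ∀ n m : ℕ, C.Rel n m → C.J • C.e n • C.x • K.base = C.e m • C.x • K.base := by
    intro n m hnm
    rw [smul_smul, show C.J * C.e n = C.e m from hnm]
  have h2 : C.Rel 2 6 := C.rel_double h13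
  have h4 : C.Rel 4 5 := C.rel_congr (C.rel_double h2) rfl rfl
  have hJJ : C.J • C.e 0 • C.x • K.base = C.x • K.base := by
    rw [C.e_zero, smul_smul, K.sq_of_mem C.J_mem, one_smul]
  fin_cases i <;> first
    | exact hJJ
    | exact h _ _ h13
    | exact h _ _ (C.rel_symm h13)
    | exact h _ _ h2
    | exact h _ _ (C.rel_symm h2)
    | exact h _ _ h4
    | exact h _ _ (C.rel_symm h4)
    | exact hJb
    | (show C.J • C.x • K.base = C.e 0 • C.x • K.base; rw [C.e_zero])

theorem x_zero : C.x • C.e 0 • C.x • K.base = C.e 0 • C.x • K.base := by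
  have hx2 := sq_of_two C.x_ord
  have hcb : C.c • K.base = K.base := (K.smul_base_iff _).mpr C.c_mem
  obtain ⟨i, hi⟩ := C.pt_bijective.2 (C.x • C.e 0 • C.x • K.base)
  have hc0 : C.c • C.e 0 • C.x • K.base = C.e 0 • C.x • K.base := by
    rw [C.e_zero, smul_smul, C.c_J, mul_smul, C.c_o]
  have hfix : C.c • C.pt i = C.pt i := by
    rw [hi, smul_smul, ← C.x_c, mul_smul, hc0]
  have hperm : C.phi C.c i = i := by
    apply C.pt_injective
    rw [show C.pt (C.phi C.c i) = C.c • C.pt i by
      simp only [phi, MonoidHom.coe_comp, MulEquiv.coe_toMonoidHom, Function.comp_apply]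
      exact (Equiv.ofBijective C.pt C.pt_bijective).apply_symm_apply _, hfix]
  rw [C.phi_c] at hperm
  have hcases : ∀ j : Fin 9, Line.cp j = j → j = 0 ∨ j = 7 ∨ j = 8 := by decide
  rcases hcases i hperm with rfl | rfl | rfl
  · exact hi.symm
  · exfalso
    have h7 : C.pt 7 = C.x • K.base := rfl
    rw [h7] at hi
    exact C.o_ne (MulAction.injective (C.e 0) ((MulAction.injective C.x hi).symm.trans (C.e_fix 0).symm))
  · exfalso
    have h8 : C.pt 8 = K.base := rfl
    rw [h8] at hi
    have h9 := congrArg (C.x • ·) hi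
    simp only [smul_smul, ← mul_assoc, hx2, one_mul] at h9
    rw [← smul_smul] at h9
    exact C.invol_o (C.e_mem 0) (C.e_ne 0) h9.symm

theorem phi_x : C.phi C.x = Line.xp := by
  refine C.phi_eq fun i => ?_
  have hx2 := sq_of_two C.x_ord
  have hxx : C.x • C.x • K.base = K.base := by rw [smul_smul, hx2, one_smul]
  have hfixq : ∀ n : ℕ, (C.q ^ n)⁻¹ • C.x • K.base = C.x • K.base := fun n =>
    inv_mem (pow_mem (show C.q ∈ MulAction.stabilizer G (C.x • K.base) from C.q_o) n)
  have h : ∀ n m : ℕ, (n + m) % 7 = 0 → C.x • C.e n • C.x • K.base = C.e m • C.x • K.base := by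
    intro n m hnm
    have hm : (C.q ^ n)⁻¹ = C.q ^ m := by
      refine inv_eq_of_mul_eq_one_right ?_
      rw [← pow_add, ← orderOf_dvd_iff_pow_eq_one, C.q_ord]
      exact Nat.dvd_of_mod_eq_zero hnm
    have hxn : C.x * C.q ^ n = C.q ^ m * C.x := by
      have h1 : C.x * C.q ^ n * C.x⁻¹ = C.q ^ m := by rw [← conj_pow, C.x_conj, inv_pow, hm]
      exact mul_inv_eq_iff_eq_mul.mp h1
    have hen : ∀ k : ℕ, C.e k • C.x • K.base = C.q ^ k • C.e 0 • C.x • K.base := by
      intro k
      rw [e, C.e_zero, mul_smul, mul_smul, hfixq k]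
    rw [hen n, hen m, smul_smul, hxn, mul_smul, C.x_zero]
  fin_cases i <;> first
    | exact h _ _ rfl
    | exact hxx
    | rfl

/-- The subgroup generated by translations, scalings and the inversion. -/
def L : Subgroup G := closure {C.J, C.q, C.x}

theorem J_mem_L : C.J ∈ C.L := subset_closure (by simp)
theorem q_mem_L : C.q ∈ C.L := subset_closure (by simp)
theorem x_mem_L : C.x ∈ C.L := subset_closure (by simp)

theorem e_mem_L (n : ℕ) : C.e n ∈ C.L :=
  mul_mem (mul_mem (pow_mem C.q_mem_L n) C.J_mem_L) (inv_mem (pow_mem C.q_mem_L n))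

theorem S_le_L : (K.S : Subgroup G) ≤ C.L := by
  intro z hz
  by_cases h : z = 1
  · rw [h]; exact one_mem _
  obtain ⟨n, -, rfl⟩ := C.e_surj hz h
  exact C.e_mem_L n

theorem sup_eq_top : C.L ⊔ zpowers C.c = ⊤ := by
  set M := C.L ⊔ zpowers C.c with hM
  have hL : C.L ≤ M := le_sup_left
  have hH : K.H ≤ M := by
    refine le_trans (ge_of_eq (eq_of_le_of_card_ge (inf_le_right : M ⊓ K.H ≤ K.H) ?_)) inf_le_left
    rw [card_H]
    refine Nat.le_of_dvd Nat.card_pos ?_
    have h8 : 8 ∣ Nat.card (M ⊓ K.H : Subgroup G) := by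
      rw [← K.card_S]
      exact card_dvd_of_le (le_inf (C.S_le_L.trans hL) K.S_le_H)
    have h7 : 7 ∣ Nat.card (M ⊓ K.H : Subgroup G) := by
      rw [← C.q_ord, ← Nat.card_zpowers]
      exact card_dvd_of_le (le_inf (zpowers_le.mpr (hL C.q_mem_L)) (zpowers_le.mpr C.q_mem))
    have h3 : 3 ∣ Nat.card (M ⊓ K.H : Subgroup G) := by
      rw [← C.c_ord, ← Nat.card_zpowers]
      exact card_dvd_of_le (le_inf le_sup_right (zpowers_le.mpr C.c_mem))
    exact Nat.Coprime.mul_dvd_of_dvd_of_dvd (m := 8 * 7) (n := 3) (by norm_num)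
      (Nat.Coprime.mul_dvd_of_dvd_of_dvd (by norm_num) h8 h7) h3
  refine eq_top_iff.mpr fun g _ => ?_
  obtain ⟨i, hi⟩ := C.pt_bijective.2 (g • K.base)
  obtain ⟨k, hk, hki⟩ : ∃ k ∈ M, k • K.base = C.pt i := by
    unfold pt
    split_ifs
    · exact ⟨C.e i * C.x, mul_mem (hL (C.e_mem_L i)) (hL C.x_mem_L), mul_smul _ _ _⟩
    · exact ⟨C.x, hL C.x_mem_L, rfl⟩
    · exact ⟨1, one_mem _, one_smul _ _⟩
  have h1 : k⁻¹ * g ∈ K.H := by
    rw [← K.smul_base_iff, mul_smul, ← hi, ← hki, inv_smul_smul]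
  have := mul_mem hk (hH h1)
  rwa [mul_inv_cancel_left] at this

include h13 in
theorem c_not_mem : C.c ∉ C.L := by
  intro h
  have hle : C.L ≤ Line.stab.comap C.phi := by
    refine (closure_le _).mpr ?_
    intro y hy
    simp only [Set.mem_insert_iff, Set.mem_singleton_iff] at hy
    rcases hy with rfl | rfl | rfl
    · show C.phi C.J ∈ Line.stab
      rw [C.phi_J h13]; exact Line.Jp_mem
    · show C.phi C.q ∈ Line.stab
      rw [C.phi_q]; exact Line.qp_mem
    · show C.phi C.x ∈ Line.stab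
      rw [C.phi_x]; exact Line.xp_mem
  have := hle h
  rw [mem_comap, C.phi_c] at this
  exact Line.cp_not_mem this

theorem conj_c_mem {y : G} (hy : y ∈ C.L) : C.c * y * C.c⁻¹ ∈ C.L := by
  have hle : C.L ≤ C.L.comap (MulAut.conj C.c).toMonoidHom := by
    refine (closure_le _).mpr ?_
    intro z hz
    simp only [Set.mem_insert_iff, Set.mem_singleton_iff] at hz
    show C.c * z * C.c⁻¹ ∈ C.L
    rcases hz with rfl | rfl | rfl
    · rw [mul_inv_eq_iff_eq_mul.mpr C.c_J]; exact C.J_mem_L
    · rw [C.c_conj]; exact pow_mem C.q_mem_L 2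
    · rw [mul_inv_eq_iff_eq_mul.mpr C.x_c.symm]; exact C.x_mem_L
  exact hle hy

theorem L_normal : C.L.Normal := by
  rw [← normalizer_eq_top_iff, eq_top_iff, ← C.sup_eq_top]
  refine sup_le le_normalizer (zpowers_le.mpr (mem_normalizer_iff.mpr fun y => ⟨C.conj_c_mem, fun h => ?_⟩))
  have h2 := C.conj_c_mem (C.conj_c_mem h)
  have hc3 : C.c * C.c * C.c = 1 := by
    rw [← pow_three', orderOf_dvd_iff_pow_eq_one.mp (C.c_ord ▸ dvd_rfl)]
  rwa [show C.c * (C.c * (C.c * y * C.c⁻¹) * C.c⁻¹) * C.c⁻¹ = C.c * C.c * C.c * y * (C.c * C.c * C.c)⁻¹ by group,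
    hc3, one_mul, inv_one, mul_one] at h2

include h13 in
theorem index_L : C.L.index = 3 := by
  haveI := C.L_normal
  set ψ := QuotientGroup.mk' C.L
  have htop : zpowers (ψ C.c) = ⊤ := by
    rw [eq_top_iff, ← map_top_of_surjective ψ (QuotientGroup.mk'_surjective _), ← C.sup_eq_top, Subgroup.map_sup,
      MonoidHom.map_zpowers]
    refine sup_le ?_ le_rfl
    rintro _ ⟨y, hy, rfl⟩
    rw [show ψ y = 1 from (QuotientGroup.eq_one_iff y).mpr hy]
    exact one_mem _
  have hne : ψ C.c ≠ 1 := fun h => C.c_not_mem h13 ((QuotientGroup.eq_one_iff _).mp h)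
  have ho : orderOf (ψ C.c) = 3 := by
    haveI : Fact (Nat.Prime 3) := ⟨by norm_num⟩
    refine orderOf_eq_prime ?_ hne
    rw [← map_pow, orderOf_dvd_iff_pow_eq_one.mp (C.c_ord ▸ dvd_rfl), map_one]
  rw [Subgroup.index, ← ho, ← Nat.card_zpowers, htop, card_top]

include h13 in
theorem card_L : Nat.card C.L = 504 := by
  have h := card_mul_index C.L
  rw [C.index_L h13, C.card_G] at h
  omega

end Coords

end Four

end CfsgLib.TwoTimesAlt.A4
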