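import Cfsg.Agent.Lib.TwoTimesAlt.A4.Local
import Cfsg.Agent.Lib.SEmb.Counting
import Mathlib.GroupTheory.Perm.Cycle.Type

/-!
# The action on the cosets of the Sylow normaliser
-/

set_option autoImplicit false

namespace CfsgLib.TwoTimesAlt.A4

open Subgroup

/-- Two elements of order 7 of a group of order dividing 21 generate the same subgroup. -/
theorem mem_zpowers_of_seven {G : Type*} [Group G] [Finite G] (B : Subgroup G)
    (hB : Nat.card B ∣ 21) {q s : G} (hq : q ∈ B) (hs : s ∈ B) (hq7 : orderOf q = 7)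
    (hs7 : orderOf s = 7) : s ∈ zpowers q := by
  by_contra hns
  haveI : Fact (Nat.Prime 7) := ⟨by norm_num⟩
  have hdis : Disjoint (zpowers q) (zpowers s) := by
    rw [disjoint_iff, eq_bot_iff_card]
    have h1 := card_dvd_of_le (inf_le_left : zpowers q ⊓ zpowers s ≤ zpowers q)
    rw [Nat.card_zpowers, hq7] at h1
    rcases (Nat.dvd_prime (by norm_num)).mp h1 with h | h
    · exact h
    · exfalso
      refine hns ?_
      have h2 : zpowers q ⊓ zpowers s = zpowers q :=
        eq_of_le_of_card_ge inf_le_left (by rw [Nat.card_zpowers, hq7, h])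
      have h3 : zpowers q = zpowers s :=
        eq_of_le_of_card_ge (h2 ▸ inf_le_right) (by rw [Nat.card_zpowers, Nat.card_zpowers, hq7, hs7])
      exact h3 ▸ mem_zpowers s
  have hle : ∀ x : zpowers q × zpowers s, (x.1 : G) * x.2 ∈ B := fun x =>
    mul_mem (zpowers_le.mpr hq x.1.2) (zpowers_le.mpr hs x.2.2)
  have hinj : Function.Injective fun x : zpowers q × zpowers s => (⟨_, hle x⟩ : B) := fun x y e =>
    mul_injective_of_disjoint hdis (congrArg Subtype.val e)
  have h := Nat.card_le_card_of_injective _ hinj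
  rw [Nat.card_prod, Nat.card_zpowers, Nat.card_zpowers, hq7, hs7] at h
  have := Nat.le_of_dvd (by norm_num) hB
  omega

namespace Four

variable {G : Type*} [Group G] [Finite G] (K : Four G)

/-- The base point. -/
def base : G ⧸ K.H := QuotientGroup.mk 1

/-- The two-point stabiliser. -/
def D (p : G ⧸ K.H) : Subgroup G := K.H ⊓ MulAction.stabilizer G p

theorem smul_base_iff (g : G) : g • K.base = K.base ↔ g ∈ K.H := SEmb.smul_one_eq_iff g

theorem fix_iff {u : G} (hu : orderOf u = 2) (g : G) :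
    u • (QuotientGroup.mk g : G ⧸ K.H) = QuotientGroup.mk g ↔
      g⁻¹ * u * g ∈ (K.S : Subgroup G) := by
  rw [SEmb.smul_mk_eq_iff]
  refine ⟨fun h => K.mem_S_of_sq h ?_, fun h => K.S_le_H h⟩
  have h2 : u * u = 1 := by rw [← pow_two, ← hu, pow_orderOf_eq_one]
  calc g⁻¹ * u * g * (g⁻¹ * u * g) = g⁻¹ * (u * u) * g := by group
    _ = 1 := by rw [h2]; group

theorem point_unique {u : G} (hu : orderOf u = 2) {p p' : G ⧸ K.H} (hp : u • p = p)
    (hp' : u • p' = p') : p = p' := by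
  induction p using QuotientGroup.induction_on with
  | _ a =>
  induction p' using QuotientGroup.induction_on with
  | _ b =>
  rw [K.fix_iff hu] at hp hp'
  refine QuotientGroup.eq.mpr (K.strong hp ?_ ?_)
  · intro e
    have : u = 1 := by
      calc u = a * (a⁻¹ * u * a) * a⁻¹ := by group
        _ = 1 := by rw [e]; group
    rw [this, orderOf_one] at hu
    norm_num at hu
  · rwa [show (a⁻¹ * b)⁻¹ * (a⁻¹ * u * a) * (a⁻¹ * b) = b⁻¹ * u * b by group]

theorem mem_S_of_fix_base {u : G} (hu : orderOf u = 2) (h : u • K.base = K.base) :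
    u ∈ (K.S : Subgroup G) := by
  have := (K.fix_iff hu 1).mp h
  simpa using this

theorem card_D_dvd {p : G ⧸ K.H} (hp : p ≠ K.base) : Nat.card (K.D p) ∣ 21 := by
  have h : Nat.card (K.D p) ∣ 8 * 21 := by
    have := card_dvd_of_le (inf_le_left : K.D p ≤ K.H)
    rwa [card_H] at this
  refine Nat.Coprime.dvd_of_dvd_mul_left ?_ h
  rw [show (8 : ℕ) = 2 ^ 3 by norm_num]
  refine Nat.Coprime.pow_right 3 (Nat.coprime_two_right.mpr ?_)
  rw [← Nat.not_even_iff_odd, even_iff_two_dvd]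
  intro h2
  haveI : Fact (Nat.Prime 2) := ⟨Nat.prime_two⟩
  obtain ⟨⟨z, hzD⟩, hz⟩ := exists_prime_orderOf_dvd_card' (G := K.D p) 2 h2
  rw [Subgroup.orderOf_mk] at hz
  obtain ⟨hzH, hzp⟩ := Subgroup.mem_inf.mp hzD
  exact hp (K.point_unique hz hzp ((K.smul_base_iff z).mpr hzH))

theorem inverted_seven {p : G ⧸ K.H} (hp : p ≠ K.base) {u q d : G} (hu : u * u = 1)
    (hu' : ∀ x ∈ K.D p, u * x * u⁻¹ ∈ K.D p) (hq : q ∈ K.D p) (hq7 : orderOf q = 7)
    (hd : d ∈ K.D p) (hud : u * d * u⁻¹ = d⁻¹) : d ^ 7 = 1 := by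
  have hB := K.card_D_dvd hp
  have h21 : d ^ 21 = 1 := by
    have := orderOf_dvd_natCard (⟨d, hd⟩ : K.D p)
    rw [Subgroup.orderOf_mk] at this
    exact orderOf_dvd_iff_pow_eq_one.mp (this.trans hB)
  by_contra hne
  haveI : Fact (Nat.Prime 3) := ⟨by norm_num⟩
  set e := d ^ 7 with he
  have he3 : orderOf e = 3 := orderOf_eq_prime (by rw [he, ← pow_mul]; exact h21) hne
  have heD : e ∈ K.D p := pow_mem hd 7
  have hue : u * e * u⁻¹ = e⁻¹ := by rw [he, ← conj_pow, hud, inv_pow]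
  set s := u * q * u⁻¹ with hs
  have hsD : s ∈ K.D p := hu' q hq
  have hs7 : orderOf s = 7 := by rw [hs, ← MulAut.conj_apply, MulEquiv.orderOf_eq, hq7]
  have heq7 : orderOf (e * q * e⁻¹) = 7 := by rw [← MulAut.conj_apply, MulEquiv.orderOf_eq, hq7]
  obtain ⟨t, ht : q ^ t = s⟩ :=
    mem_zpowers_of_seven (K.D p) hB hq hsD hq7 hs7
  obtain ⟨r, hr : q ^ r = e * q * e⁻¹⟩ :=
    mem_zpowers_of_seven (K.D p) hB hq (mul_mem (mul_mem heD hq) (inv_mem heD)) hq7 heq7
  have h1 : e * s * e⁻¹ = s ^ r := by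
    rw [← ht, ← conj_zpow, ← hr, ← zpow_mul, ← zpow_mul, mul_comm]
  have h2 : e⁻¹ * s * e = s ^ r := by
    calc e⁻¹ * s * e = u * e * u⁻¹ * (u * q * u⁻¹) * (u * e * u⁻¹)⁻¹ := by rw [hue, hs, inv_inv]
      _ = u * (e * q * e⁻¹) * u⁻¹ := by group
      _ = s ^ r := by rw [← hr, hs, conj_zpow]
  refine K.no_seven_three (mul_mem heD heD : e * e ∈ K.D p).1 hs7 hsD.1 ?_ ?_
  · rw [← pow_two, orderOf_pow, he3]; norm_num
  · calc s * (e * e) = e * (e⁻¹ * s * e) * e := by group
      _ = e * (e * s * e⁻¹) * e := by rw [h2, h1]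
      _ = e * e * s := by group

theorem card_invol : Nat.card {u : G // orderOf u = 2} = 7 * K.H.index := by
  let f : G ⧸ centralizer ({K.J} : Set G) → {u : G // orderOf u = 2} :=
    Quotient.lift (fun g => ⟨g * K.J * g⁻¹, by rw [← MulAut.conj_apply, MulEquiv.orderOf_eq, orderOf_J]⟩)
      (fun a b h => Subtype.ext (by
        have h' : a⁻¹ * b * K.J = K.J * (a⁻¹ * b) :=
          mem_centralizer_singleton_iff.mp (QuotientGroup.leftRel_apply.mp h)
        calc a * K.J * a⁻¹ = a * (K.J * (a⁻¹ * b)) * b⁻¹ := by group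
          _ = a * (a⁻¹ * b * K.J) * b⁻¹ := by rw [h']
          _ = b * K.J * b⁻¹ := by group))
  have hf : Function.Bijective f := by
    constructor
    · intro x y
      refine QuotientGroup.induction_on x fun a => QuotientGroup.induction_on y fun b h => ?_
      have h' : a * K.J * a⁻¹ = b * K.J * b⁻¹ := congrArg Subtype.val h
      refine QuotientGroup.eq.mpr (mem_centralizer_singleton_iff.mpr ?_)
      calc a⁻¹ * b * K.J = a⁻¹ * (b * K.J * b⁻¹) * b := by group
        _ = a⁻¹ * (a * K.J * a⁻¹) * b := by rw [h']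
        _ = K.J * (a⁻¹ * b) := by group
    · rintro ⟨u, hu⟩
      obtain ⟨g, hg⟩ := K.invol_conj hu
      exact ⟨QuotientGroup.mk g, Subtype.ext hg⟩
  rw [← Nat.card_congr (Equiv.ofBijective f hf), ← Subgroup.index]
  have h1 := card_mul_index (centralizer ({K.J} : Set G))
  have h2 := card_mul_index K.H
  rw [J, K.range_eq, Nat.card_congr (MonoidHom.ofInjective K.inj).toEquiv.symm, card_M4] at h1
  rw [card_H] at h2
  rw [J, K.range_eq]
  omega

theorem sq_of_two {G : Type*} [Group G] {u : G} (h : orderOf u = 2) : u * u = 1 := by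
  rw [← pow_two, ← h, pow_orderOf_eq_one]

theorem swap_mul {p : G ⧸ K.H} {u w : G} (hu : orderOf u = 2) (hup : u • K.base = p)
    (hw : orderOf w = 2) (hwp : w • K.base = p) :
    u * w ∈ K.D p ∧ u * (u * w) * u⁻¹ = (u * w)⁻¹ := by
  have hu2 := sq_of_two hu
  have hw2 := sq_of_two hw
  have hpu : u • p = K.base := by rw [← hup, smul_smul, hu2, one_smul]
  have hpw : w • p = K.base := by rw [← hwp, smul_smul, hw2, one_smul]
  refine ⟨⟨(K.smul_base_iff _).mp (by rw [mul_smul, hwp, hpu]), ?_⟩, ?_⟩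
  · show (u * w) • p = p
    rw [mul_smul, hpw, hup]
  · rw [mul_inv_rev, inv_eq_of_mul_eq_one_right hw2, inv_eq_of_mul_eq_one_right hu2, ← mul_assoc u u,
      hu2, one_mul]

theorem swap_conj {p : G ⧸ K.H} {u x : G} (hu : orderOf u = 2) (hup : u • K.base = p) (hx : x ∈ K.D p) :
    u * x * u⁻¹ ∈ K.D p := by
  have hu2 := sq_of_two hu
  have hpu : u • p = K.base := by rw [← hup, smul_smul, hu2, one_smul]
  obtain ⟨hx1, hx2 : x • p = p⟩ := hx
  refine ⟨(K.smul_base_iff _).mp ?_, ?_⟩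
  · rw [inv_eq_of_mul_eq_one_right hu2, mul_smul, mul_smul, hup, hx2, hpu]
  · show (u * x * u⁻¹) • p = p
    rw [inv_eq_of_mul_eq_one_right hu2, mul_smul, mul_smul, hpu, (K.smul_base_iff x).mpr hx1, hup]

theorem swap_seven {p : G ⧸ K.H} (hp : p ≠ K.base) {u w q : G} (hu : orderOf u = 2)
    (hup : u • K.base = p) (hw : orderOf w = 2) (hwp : w • K.base = p) (hqD : q ∈ K.D p)
    (hq : orderOf q = 7) : u * w ∈ zpowers q := by
  haveI : Fact (Nat.Prime 7) := ⟨by norm_num⟩
  obtain ⟨hD, hinv⟩ := K.swap_mul hu hup hw hwp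
  have h7 := K.inverted_seven hp (sq_of_two hu) (fun x hx => K.swap_conj hu hup hx) hqD hq hD hinv
  by_cases h1 : u * w = 1
  · rw [h1]; exact one_mem _
  · exact mem_zpowers_of_seven _ (K.card_D_dvd hp) hqD hD hq (orderOf_eq_prime h7 h1)

theorem fibre_le {p : G ⧸ K.H} :
    Nat.card {u : {u : G // orderOf u = 2} // u.1 • K.base = p} ≤ 7 := by
  by_cases hp : p = K.base
  · subst hp
    rw [← K.card_Pts]
    refine Nat.card_le_card_of_injective
      (fun u => ⟨u.1.1, K.mem_S_of_fix_base u.1.2 u.2, fun e => ?_⟩) ?_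
    · have := u.1.2
      rw [e, orderOf_one] at this
      norm_num at this
    · intro a b e
      exact Subtype.ext (Subtype.ext (congrArg (fun z : K.Pts => z.1) e))
  rcases isEmpty_or_nonempty {u : {u : G // orderOf u = 2} // u.1 • K.base = p} with h | h
  · simp
  obtain ⟨⟨⟨u, hu⟩, hup⟩⟩ := h
  by_cases h7 : 7 ∣ Nat.card (K.D p)
  · haveI : Fact (Nat.Prime 7) := ⟨by norm_num⟩
    obtain ⟨⟨q, hqD⟩, hq⟩ := exists_prime_orderOf_dvd_card' (G := K.D p) 7 h7
    rw [Subgroup.orderOf_mk] at hq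
    rw [← hq, ← Nat.card_zpowers]
    exact Nat.card_le_card_of_injective
      (fun w => (⟨_, K.swap_seven hp hu hup w.1.2 w.2 hqD hq⟩ : zpowers q))
      fun a b e => Subtype.ext (Subtype.ext (mul_left_cancel (congrArg (fun z : zpowers q => (z : G)) e)))
  · refine le_trans (Nat.card_le_card_of_injective
      (fun w => (⟨_, (K.swap_mul hu hup w.1.2 w.2).1⟩ : K.D p))
      fun a b e => Subtype.ext (Subtype.ext (mul_left_cancel (congrArg (fun z : K.D p => (z : G)) e)))) ?_
    have h3 : Nat.card (K.D p) ∣ 3 * 7 := K.card_D_dvd hp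
    have := Nat.Coprime.dvd_of_dvd_mul_right
      ((Nat.Prime.coprime_iff_not_dvd (by norm_num)).mpr h7).symm h3
    have := Nat.le_of_dvd (by norm_num) this
    omega

theorem fibre_eq (p : G ⧸ K.H) :
    Nat.card {u : {u : G // orderOf u = 2} // u.1 • K.base = p} = 7 := by
  classical
  haveI := Fintype.ofFinite (G ⧸ K.H)
  have hsum := K.card_invol
  rw [← Nat.card_congr (Equiv.sigmaFiberEquiv fun u : {u : G // orderOf u = 2} => u.1 • K.base),
    Nat.card_sigma, Subgroup.index, Nat.card_eq_fintype_card (α := G ⧸ K.H)] at hsum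
  refine (Finset.sum_eq_sum_iff_of_le
    (f := fun i : G ⧸ K.H => Nat.card {u : {u : G // orderOf u = 2} // u.1 • K.base = i})
    (g := fun _ => 7) fun i _ => K.fibre_le (p := i)).mp ?_ p (Finset.mem_univ p)
  rw [hsum, Finset.sum_const, Finset.card_univ, smul_eq_mul, mul_comm]

/-- Each point other than the base is moved to it by an involution inverting an element of order 7
fixing both. -/
theorem exists_swap {p : G ⧸ K.H} (hp : p ≠ K.base) : ∃ u q : G, orderOf u = 2 ∧ u • K.base = p ∧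
    orderOf q = 7 ∧ q ∈ K.D p ∧ u * q * u⁻¹ = q⁻¹ := by
  have hf := K.fibre_eq p
  have hne : Nonempty {u : {u : G // orderOf u = 2} // u.1 • K.base = p} :=
    (Nat.card_ne_zero.mp (by omega)).1
  obtain ⟨⟨⟨u, hu⟩, hup⟩⟩ := hne
  haveI : Fact (Nat.Prime 7) := ⟨by norm_num⟩
  have h7 : 7 ∣ Nat.card (K.D p) := by
    have hle := Nat.card_le_card_of_injective
      (fun w : {u : {u : G // orderOf u = 2} // u.1 • K.base = p} =>
        (⟨_, (K.swap_mul hu hup w.1.2 w.2).1⟩ : K.D p))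
      fun a b e => Subtype.ext (Subtype.ext (mul_left_cancel (congrArg (fun z : K.D p => (z : G)) e)))
    rw [hf] at hle
    by_contra h7
    have h3 : Nat.card (K.D p) ∣ 3 * 7 := K.card_D_dvd hp
    have := Nat.le_of_dvd (by norm_num) (Nat.Coprime.dvd_of_dvd_mul_right
      ((Nat.Prime.coprime_iff_not_dvd (by norm_num)).mpr h7).symm h3)
    omega
  obtain ⟨⟨q, hqD⟩, hq⟩ := exists_prime_orderOf_dvd_card' (G := K.D p) 7 h7
  rw [Subgroup.orderOf_mk] at hq
  let g : {u : {u : G // orderOf u = 2} // u.1 • K.base = p} → zpowers q :=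
    fun w => ⟨_, K.swap_seven hp hu hup w.1.2 w.2 hqD hq⟩
  have hbij : Function.Bijective g := by
    haveI := Fintype.ofFinite (zpowers q)
    haveI := Fintype.ofFinite {u : {u : G // orderOf u = 2} // u.1 • K.base = p}
    rw [Fintype.bijective_iff_injective_and_card, ← Nat.card_eq_fintype_card,
      ← Nat.card_eq_fintype_card, hf, Nat.card_zpowers, hq]
    exact ⟨fun a b e => Subtype.ext (Subtype.ext (mul_left_cancel (congrArg (fun z : zpowers q => (z : G)) e))),
      rfl⟩
  obtain ⟨w, hw⟩ := hbij.2 ⟨q, mem_zpowers q⟩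
  have hw' : u * w.1.1 = q := congrArg Subtype.val hw
  exact ⟨u, q, hu, hup, hq, hqD, hw' ▸ (K.swap_mul hu hup w.1.2 w.2).2⟩

end Four

end CfsgLib.TwoTimesAlt.A4
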