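import Cfsg.Agent.Lib.TwoTimesAlt.A4.Points
import Mathlib.GroupTheory.FixedPointFree
import Mathlib.GroupTheory.Sylow

/-!
# Elements of order 7
-/

set_option autoImplicit false

namespace CfsgLib.TwoTimesAlt.A4

open Subgroup

/-- The normaliser of a cyclic subgroup. -/
theorem mem_normalizer_zpowers {G : Type*} [Group G] [Finite G] {q x : G}
    (h : x * q * x⁻¹ ∈ zpowers q) : x ∈ normalizer (zpowers q : Set G) := by
  have hle : (zpowers q).map (MulAut.conj x).toMonoidHom ≤ zpowers q := by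
    rw [MonoidHom.map_zpowers, zpowers_le]; exact h
  have heq := eq_of_le_of_card_ge hle (card_map_of_injective (MulAut.conj x).injective).ge
  refine mem_normalizer_iff.mpr fun a => ⟨fun ha => hle ⟨a, ha, rfl⟩, fun ha => ?_⟩
  rw [← heq] at ha
  obtain ⟨b, hb, he⟩ := ha
  have hba : b = a := (MulAut.conj x).injective (show MulAut.conj x b = MulAut.conj x a from he)
  exact hba ▸ hb

theorem zpowers_seven {G : Type*} [Group G] [Finite G] {q y : G} (hq : orderOf q = 7)
    (hy : y ∈ zpowers q) : ∃ i < 7, y = q ^ i := by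
  classical
  rw [mem_zpowers_iff_mem_range_orderOf, Finset.mem_image] at hy
  obtain ⟨i, hi, rfl⟩ := hy
  exact ⟨i, by simpa [hq] using hi, rfl⟩

theorem cube_mod_seven : ∀ r < 7, r ^ 3 % 7 = 1 → r = 1 ∨ r = 2 ∨ r = 4 := by decide

namespace Four

variable {G : Type*} [Group G] [Finite G] (K : Four G)

theorem exists_seven_H : ∃ q ∈ K.H, orderOf q = 7 := by
  haveI : Fact (Nat.Prime 7) := ⟨by norm_num⟩
  obtain ⟨⟨q, hqH⟩, hq⟩ := exists_prime_orderOf_dvd_card' (G := K.H) 7 (by rw [card_H]; norm_num)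
  exact ⟨q, hqH, by rwa [Subgroup.orderOf_mk] at hq⟩

theorem sylow_seven {q : G} (hqH : q ∈ K.H) (hq : orderOf q = 7) :
    ∃ P : Sylow 7 K.H, (P : Subgroup K.H) = zpowers ⟨q, hqH⟩ := by
  haveI : Fact (Nat.Prime 7) := ⟨by norm_num⟩
  have hq' : orderOf (⟨q, hqH⟩ : K.H) = 7 := by rw [Subgroup.orderOf_mk, hq]
  have hp : IsPGroup 7 (zpowers (⟨q, hqH⟩ : K.H)) :=
    IsPGroup.of_card (n := 1) (by rw [Nat.card_zpowers, hq', pow_one])
  obtain ⟨P, hP⟩ := hp.exists_le_sylow
  refine ⟨P, (eq_of_le_of_card_ge hP ?_).symm⟩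
  rw [Nat.card_zpowers, hq']
  obtain ⟨n, hn⟩ := P.isPGroup'.exists_card_eq
  have h := card_subgroup_dvd_card (P : Subgroup K.H)
  rw [hn, card_H] at h
  rw [hn]
  by_contra hne
  have h2 : 2 ≤ n := by
    rcases n with _ | _ | n
    · norm_num at hne
    · norm_num at hne
    · omega
  have := (pow_dvd_pow 7 h2).trans h
  norm_num at this

theorem conj_seven {q q' : G} (hqH : q ∈ K.H) (hq : orderOf q = 7) (hqH' : q' ∈ K.H)
    (hq' : orderOf q' = 7) : ∃ h ∈ K.H, h * q * h⁻¹ ∈ zpowers q' := by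
  haveI : Fact (Nat.Prime 7) := ⟨by norm_num⟩
  obtain ⟨P, hP⟩ := K.sylow_seven hqH hq
  obtain ⟨P', hP'⟩ := K.sylow_seven hqH' hq'
  obtain ⟨h, hh⟩ := MulAction.exists_smul_eq K.H P P'
  refine ⟨h, h.2, ?_⟩
  have h1 : h * ⟨q, hqH⟩ * h⁻¹ ∈ (P' : Subgroup K.H) := by
    rw [← hh, Sylow.coe_subgroup_smul]
    exact Subgroup.smul_mem_pointwise_smul _ (MulAut.conj h) _ (hP ▸ mem_zpowers _)
  rw [hP'] at h1
  obtain ⟨i, hi⟩ := h1
  exact ⟨i, congrArg Subtype.val hi⟩

/-- An involution of the normaliser does not normalise a subgroup of order 7. -/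
theorem not_normalize {q z : G} (hqH : q ∈ K.H) (hq : orderOf q = 7) (hzH : z ∈ K.H)
    (hz : orderOf z = 2) : z * q * z⁻¹ ∉ zpowers q := by
  intro h
  have hzS : z ∈ (K.S : Subgroup G) := K.mem_S_of_sq hzH (sq_of_two hz)
  have h1 : z * q * z⁻¹ * q⁻¹ ∈ zpowers q := mul_mem h (inv_mem (mem_zpowers q))
  have h2 : z * q * z⁻¹ * q⁻¹ ∈ (K.S : Subgroup G) := by
    rw [show z * q * z⁻¹ * q⁻¹ = z * (q * z⁻¹ * q⁻¹) by group]
    exact mul_mem hzS (K.conj_mem hqH (inv_mem hzS))
  have h3 : z * q * z⁻¹ * q⁻¹ = 1 := by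
    obtain ⟨i, hi, he⟩ := zpowers_seven hq h1
    have h4 := K.sq_of_mem h2
    rw [he, ← pow_add] at h4
    have := orderOf_dvd_of_pow_eq_one h4
    rw [hq] at this
    rw [he, show i = 0 by omega, pow_zero]
  have hc : q * z = z * q := by
    calc q * z = 1 * (q * z) := (one_mul _).symm
      _ = z * q * z⁻¹ * q⁻¹ * (q * z) := by rw [h3]
      _ = z * q := by group
  have := K.seven_not_comm (by rw [← hq, pow_orderOf_eq_one]) hz hc
  rw [this, orderOf_one] at hq
  norm_num at hq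

theorem coprime_of_no_two {B : Subgroup G}
    (h : ∀ z ∈ B, orderOf z ≠ 2) : Nat.Coprime (Nat.card B) 8 := by
  rw [show (8 : ℕ) = 2 ^ 3 by norm_num]
  refine Nat.Coprime.pow_right 3 (Nat.coprime_two_right.mpr ?_)
  rw [← Nat.not_even_iff_odd, even_iff_two_dvd]
  intro h2
  haveI : Fact (Nat.Prime 2) := ⟨Nat.prime_two⟩
  obtain ⟨⟨z, hz⟩, hz2⟩ := exists_prime_orderOf_dvd_card' (G := B) 2 h2
  exact h z hz (by rwa [Subgroup.orderOf_mk] at hz2)

theorem card_NH {q : G} (hqH : q ∈ K.H) (hq : orderOf q = 7) :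
    Nat.card (K.H ⊓ normalizer (zpowers q : Set G) : Subgroup G) = 21 := by
  haveI : Fact (Nat.Prime 7) := ⟨by norm_num⟩
  set B : Subgroup G := K.H ⊓ normalizer (zpowers q : Set G) with hB
  have hdvd : Nat.card B ∣ 21 := by
    refine Nat.Coprime.dvd_of_dvd_mul_left (coprime_of_no_two fun z hz hz2 => ?_) ?_
    · exact K.not_normalize hqH hq hz.1 hz2 ((mem_normalizer_iff.mp hz.2 q).mp (mem_zpowers q))
    · have := card_dvd_of_le (inf_le_left : B ≤ K.H)
      rwa [card_H] at this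
  obtain ⟨P, hP⟩ := K.sylow_seven hqH hq
  have hBsub : B.subgroupOf K.H = normalizer (P : Set K.H) := by
    ext x
    show (x : G) ∈ B ↔ x ∈ normalizer ((P : Subgroup K.H) : Set K.H)
    rw [hP]
    constructor
    · intro hx
      refine mem_normalizer_zpowers ?_
      obtain ⟨i, hi⟩ := (mem_normalizer_iff.mp hx.2 q).mp (mem_zpowers q)
      exact ⟨i, Subtype.ext hi⟩
    · intro hx
      refine ⟨x.2, mem_normalizer_zpowers ?_⟩
      obtain ⟨i, hi⟩ := (mem_normalizer_iff.mp hx ⟨q, hqH⟩).mp (mem_zpowers _)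
      exact ⟨i, congrArg Subtype.val hi⟩
  have hmul := card_mul_index (B.subgroupOf K.H)
  rw [Nat.card_congr (subgroupOfEquivOfLe (inf_le_left : B ≤ K.H)).toEquiv, card_H, hBsub,
    ← Sylow.card_eq_index_normalizer P] at hmul
  have hmod := card_sylow_modEq_one 7 K.H
  have hle := Nat.le_of_dvd (by norm_num) hdvd
  unfold Nat.ModEq at hmod
  interval_cases h : Nat.card B <;> simp_all <;> omega

theorem exists_three {q : G} (hqH : q ∈ K.H) (hq : orderOf q = 7) :
    ∃ c ∈ K.H, orderOf c = 3 ∧ c * q * c⁻¹ = q ^ 2 := by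
  haveI : Fact (Nat.Prime 3) := ⟨by norm_num⟩
  obtain ⟨⟨c, hcB⟩, hc⟩ := exists_prime_orderOf_dvd_card'
    (G := (K.H ⊓ normalizer (zpowers q : Set G) : Subgroup G)) 3 (by rw [K.card_NH hqH hq]; norm_num)
  rw [Subgroup.orderOf_mk] at hc
  obtain ⟨hcH, hcN⟩ := Subgroup.mem_inf.mp hcB
  obtain ⟨r, hr, he⟩ := zpowers_seven hq ((mem_normalizer_iff.mp hcN q).mp (mem_zpowers q))
  have hiter : ∀ n : ℕ, c ^ n * q * (c ^ n)⁻¹ = q ^ r ^ n := by
    intro n
    induction n with
    | zero => simp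
    | succ n ih =>
      rw [pow_succ', mul_inv_rev, show c * c ^ n * q * ((c ^ n)⁻¹ * c⁻¹) =
        c * (c ^ n * q * (c ^ n)⁻¹) * c⁻¹ by group, ih, ← conj_pow, he, ← pow_mul, ← pow_succ']
  have h3 := hiter 3
  rw [← hc, pow_orderOf_eq_one, one_mul, inv_one, mul_one, hc] at h3
  conv_lhs at h3 => rw [← pow_one q]
  rw [pow_inj_mod, hq] at h3
  rcases cube_mod_seven r hr h3.symm with rfl | rfl | rfl
  · exfalso
    rw [pow_one] at he
    exact K.no_seven_three hcH hq hqH hc (mul_inv_eq_iff_eq_mul.mp he).symm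
  · exact ⟨c, hcH, hc, he⟩
  · refine ⟨c ^ 2, pow_mem hcH 2, by rw [orderOf_pow, hc]; norm_num, ?_⟩
    rw [hiter 2, pow_inj_mod, hq]; norm_num

theorem mem_zpowers_of_comm {q x : G} (hqH : q ∈ K.H) (hq : orderOf q = 7) (hxH : x ∈ K.H)
    (hx : x * q = q * x) : x ∈ zpowers q := by
  set B : Subgroup G := K.H ⊓ centralizer ({q} : Set G) with hB
  have hdvd : Nat.card B ∣ 7 := by
    have h8 : Nat.Coprime (Nat.card B) 8 := coprime_of_no_two fun z hz hz2 => by
      have := K.seven_not_comm (by rw [← hq, pow_orderOf_eq_one]) hz2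
        (mem_centralizer_singleton_iff.mp hz.2).symm
      rw [this, orderOf_one] at hq
      norm_num at hq
    have h3 : Nat.Coprime (Nat.card B) 3 := by
      rw [Nat.coprime_comm, Nat.Prime.coprime_iff_not_dvd (by norm_num)]
      intro h
      haveI : Fact (Nat.Prime 3) := ⟨by norm_num⟩
      obtain ⟨⟨z, hz⟩, hz3⟩ := exists_prime_orderOf_dvd_card' (G := B) 3 h
      rw [Subgroup.orderOf_mk] at hz3
      exact K.no_seven_three hz.1 hq hqH hz3 (mem_centralizer_singleton_iff.mp hz.2).symm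
    refine Nat.Coprime.dvd_of_dvd_mul_left (h8.mul_right h3) ?_
    have := card_dvd_of_le (inf_le_left : B ≤ K.H)
    rwa [card_H] at this
  have hle : zpowers q ≤ B := zpowers_le.mpr ⟨hqH, mem_centralizer_singleton_iff.mpr rfl⟩
  rw [eq_of_le_of_card_ge hle (by rw [Nat.card_zpowers, hq]; exact Nat.le_of_dvd (by norm_num) hdvd)]
  exact ⟨hxH, mem_centralizer_singleton_iff.mpr hx⟩

include K in
theorem card_cent_odd {q : G} (hq : orderOf q = 7) : Odd (Nat.card (centralizer ({q} : Set G))) := by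
  rw [← Nat.coprime_two_right]
  refine (Nat.Coprime.coprime_dvd_right (by norm_num : 2 ∣ 8)) (coprime_of_no_two fun z hz hz2 => ?_)
  have := K.seven_not_comm (by rw [← hq, pow_orderOf_eq_one]) hz2 (mem_centralizer_singleton_iff.mp hz).symm
  rw [this, orderOf_one] at hq
  norm_num at hq

include K in
theorem inv_of_cent {q u c : G} (hq : orderOf q = 7) (hu : orderOf u = 2) (huq : u * q * u⁻¹ = q⁻¹)
    (hcq : c * q * c⁻¹ = q ^ 2) {a : G} (ha : a * q = q * a) : u * a * u⁻¹ = a⁻¹ := by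
  set A := centralizer ({q} : Set G) with hA
  have hodd := K.card_cent_odd hq
  have hu2 := sq_of_two hu
  have hui : u⁻¹ = u := inv_eq_of_mul_eq_one_right hu2
  have huA : ∀ x ∈ A, u * x * u⁻¹ ∈ A := by
    intro x hx
    have hx' : Commute x q := mem_centralizer_singleton_iff.mp hx
    have h := (hx'.inv_right).map (MulAut.conj u)
    simp only [MulAut.conj_apply] at h
    rw [show u * q⁻¹ * u⁻¹ = (u * q * u⁻¹)⁻¹ by group, huq, inv_inv] at h
    exact mem_centralizer_singleton_iff.mpr h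
  let φ : A → A := fun x => ⟨u * x * u⁻¹, huA x x.2⟩
  have hinv : Function.Involutive φ := fun x => Subtype.ext (by
    show u * (u * x * u⁻¹) * u⁻¹ = x
    calc u * (u * (x : G) * u⁻¹) * u⁻¹ = u * u * x * (u * u)⁻¹ := by group
      _ = x := by rw [hu2, one_mul, inv_one, mul_one])
  have hfpf : MonoidHom.FixedPointFree φ := by
    intro b hb
    by_contra hb1
    have hbu : u * (b : G) = b * u := mul_inv_eq_iff_eq_mul.mp (congrArg Subtype.val hb)
    obtain ⟨ju, hji, hjr, hjz⟩ := K.exists_emb hu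
    -- the elements of `A` centralising `u`
    have hcube : ∀ y : M4, ju y ∈ A → y ^ 3 = 1 := by
      intro y hy
      refine cube_of_odd_order y ?_
      rw [← orderOf_injective ju hji]
      refine Odd.of_dvd_nat hodd ?_
      have := orderOf_dvd_natCard (⟨ju y, hy⟩ : A)
      rwa [Subgroup.orderOf_mk] at this
    -- an element outside acting as `c` and commuting with `u`
    have hnorm : ∀ x ∈ A, u * (x * c) * u⁻¹ * c⁻¹ ∈ A := by
      intro x hx
      refine mem_centralizer_singleton_iff.mpr ?_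
      have hxq : x * q * x⁻¹ = q := mul_inv_eq_iff_eq_mul.mpr (mem_centralizer_singleton_iff.mp hx)
      have e1 : c⁻¹ * q ^ 2 * c = q := by rw [← hcq]; group
      have e2 : u * q⁻¹ * u⁻¹ = q := by rw [show u * q⁻¹ * u⁻¹ = (u * q * u⁻¹)⁻¹ by group, huq, inv_inv]
      have h4 : (u * (x * c) * u⁻¹ * c⁻¹) * q ^ 2 * (u * (x * c) * u⁻¹ * c⁻¹)⁻¹ = q ^ 2 := by
        calc (u * (x * c) * u⁻¹ * c⁻¹) * q ^ 2 * (u * (x * c) * u⁻¹ * c⁻¹)⁻¹
            = u * (x * (c * (u⁻¹ * (c⁻¹ * q ^ 2 * c) * u) * c⁻¹) * x⁻¹) * u⁻¹ := by group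
          _ = u * (x * (c * q⁻¹ * c⁻¹) * x⁻¹) * u⁻¹ := by
            rw [e1, hui]
            conv_lhs => rw [show u * q * u = u * q * u⁻¹ by rw [hui], huq]
          _ = u * (x * (c * q * c⁻¹)⁻¹ * x⁻¹) * u⁻¹ := by rw [conj_inv]
          _ = u * ((x * q * x⁻¹) ^ 2)⁻¹ * u⁻¹ := by rw [hcq, ← conj_inv, conj_pow]
          _ = q ^ 2 := by rw [hxq, ← inv_pow, ← conj_pow, e2]
      have h8 : q = (q ^ 2) ^ 4 := by
        rw [← pow_mul, show 2 * 4 = orderOf q + 1 by rw [hq], pow_add, pow_orderOf_eq_one, one_mul, pow_one]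
      refine mul_inv_eq_iff_eq_mul.mp ?_
      rw [h8, ← conj_pow, h4]
    let ψ : A → A := fun x => ⟨_, hnorm x x.2⟩
    have hψ : Function.Involutive ψ := fun x => Subtype.ext (by
      show u * (u * (x * c) * u⁻¹ * c⁻¹ * c) * u⁻¹ * c⁻¹ = x
      rw [inv_mul_cancel_right]
      calc u * (u * ((x : G) * c) * u⁻¹) * u⁻¹ * c⁻¹ = u * u * (x * c) * (u * u)⁻¹ * c⁻¹ := by group
        _ = x := by rw [hu2, one_mul, inv_one, mul_one, mul_inv_cancel_right])
    obtain ⟨x, hx⟩ : ∃ x, ψ x = x := by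
      classical
      haveI := Fintype.ofFinite A
      haveI : Fact (Nat.Prime 2) := ⟨Nat.prime_two⟩
      exact Equiv.Perm.exists_fixed_point_of_prime (p := 2) (n := 1) (σ := hψ.toPerm) (by
        rw [← Nat.card_eq_fintype_card, ← even_iff_two_dvd, Nat.not_even_iff_odd]; exact hodd)
        (by ext y; simp [pow_two, hψ y])
    set c2 := (x : G) * c with hc2
    have hc2u : c2 * u = u * c2 := by
      have h5 : u * c2 * u⁻¹ * c⁻¹ = (x : G) := congrArg Subtype.val hx
      have h6 := mul_inv_eq_iff_eq_mul.mp h5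
      exact (mul_inv_eq_iff_eq_mul.mp h6).symm
    have hc2q : c2 * q * c2⁻¹ = q ^ 2 := by
      have hxq : (x : G) * q * (x : G)⁻¹ = q := mul_inv_eq_iff_eq_mul.mpr (mem_centralizer_singleton_iff.mp x.2)
      rw [hc2, show (x : G) * c * q * ((x : G) * c)⁻¹ = x * (c * q * c⁻¹) * (x : G)⁻¹ by group, hcq,
        ← conj_pow, hxq]
    obtain ⟨mb, hmb⟩ : (b : G) ∈ ju.range := hjr ▸ mem_centralizer_singleton_iff.mpr hbu.symm
    obtain ⟨mc, hmc⟩ : c2 ∈ ju.range := hjr ▸ mem_centralizer_singleton_iff.mpr hc2u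
    have hmb3 := hcube mb (hmb ▸ b.2)
    have hmb1 : mb ≠ 1 := fun h => hb1 (Subtype.ext (by rw [← hmb, h, map_one]; rfl))
    have hjA : ju (mc * mb * mc⁻¹) ∈ A := by
      refine mem_centralizer_singleton_iff.mpr ?_
      rw [map_mul, map_mul, map_inv, hmb, hmc]
      have hb' : Commute (b : G) q := mem_centralizer_singleton_iff.mp b.2
      have h7 := (hb'.pow_right 4).map (MulAut.conj c2)
      simp only [MulAut.conj_apply] at h7
      rw [← conj_pow, hc2q, ← pow_mul, show 2 * 4 = orderOf q + 1 by rw [hq], pow_add, pow_orderOf_eq_one,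
        one_mul, pow_one] at h7
      exact h7
    -- the odd-order subgroup of `2 × A₄` has at most three elements
    have hsub : ∀ y : M4, ju y ∈ A → y = 1 ∨ y = mb ∨ y = mb * mb := by
      intro y hy
      set B : Subgroup M4 := A.comap ju
      have hBcard : Nat.card B ∣ 3 := by
        refine Nat.Coprime.dvd_of_dvd_mul_left (?_ : Nat.Coprime (Nat.card B) 8) ?_
        · refine coprime_of_no_two (G := M4) (B := B) fun z hz hz2 => ?_
          have := hcube z hz
          have h := orderOf_dvd_of_pow_eq_one this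
          rw [hz2] at h
          norm_num at h
        · have := card_subgroup_dvd_card B
          rwa [card_M4] at this
      have hle : zpowers mb ≤ B := zpowers_le.mpr (hmb ▸ b.2 : ju mb ∈ A)
      haveI : Fact (Nat.Prime 3) := ⟨by norm_num⟩
      have ho : orderOf mb = 3 := orderOf_eq_prime hmb3 hmb1
      have heq := eq_of_le_of_card_ge hle (by rw [Nat.card_zpowers, ho]; exact Nat.le_of_dvd (by norm_num) hBcard)
      have hyB : y ∈ zpowers mb := heq ▸ hy
      rw [mem_zpowers_iff_mem_range_orderOf, ho] at hyB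
      simp only [Finset.mem_image, Finset.mem_range] at hyB
      obtain ⟨i, hi, rfl⟩ := hyB
      interval_cases i
      · left; rw [pow_zero]
      · right; left; rw [pow_one]
      · right; right; rw [pow_two]
    have hcases : mc * mb * mc⁻¹ = mb ∨ mc * mb * mc⁻¹ = mb * mb := by
      rcases hsub _ hjA with h | h | h
      · exact absurd (conj_eq_one_iff.mp h) hmb1
      · exact Or.inl h
      · exact Or.inr h
    have hfix : ∀ g ∈ A, g * q * g⁻¹ = q := fun g hg =>
      mul_inv_eq_iff_eq_mul.mpr (mem_centralizer_singleton_iff.mp hg)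
    have hbq : (b : G) ∈ A := b.2
    have hbb : (b : G) * b ∈ A := mul_mem hbq hbq
    have hu_act : ∀ g ∈ A, u * g * q * (u * g)⁻¹ = q⁻¹ := fun g hg => by
      rw [show u * g * q * (u * g)⁻¹ = u * (g * q * g⁻¹) * u⁻¹ by group, hfix g hg, huq]
    have h2ne : q ^ 2 ≠ q := fun h => by
      have h' : q ^ 2 = q ^ 1 := by rwa [pow_one]
      rw [pow_inj_mod, hq] at h'
      norm_num at h'
    have h2ne' : q ^ 2 ≠ q⁻¹ := fun h => by
      have h' : q ^ 3 = q ^ 0 := by rw [pow_succ, h, inv_mul_cancel, pow_zero]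
      rw [pow_inj_mod, hq] at h'
      norm_num at h'
    rcases norm_three mb mc hmb3 hmb1 hcases with h | h | h | h | h | h <;>
      rw [h] at hmc <;> simp only [map_one, map_mul, hmb, hjz] at hmc <;> rw [← hmc] at hc2q
    · exact h2ne (hc2q.symm.trans (hfix 1 (one_mem A)))
    · exact h2ne (hc2q.symm.trans (hfix _ hbq))
    · exact h2ne (hc2q.symm.trans (hfix _ hbb))
    · exact h2ne' (hc2q.symm.trans huq)
    · exact h2ne' (hc2q.symm.trans (hu_act _ hbq))
    · exact h2ne' (hc2q.symm.trans (hu_act _ hbb))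
  have h := congrFun (hfpf.coe_eq_inv_of_involutive
    (φ := (MonoidHom.mk' φ fun x y => Subtype.ext (by
      show u * (x * y : G) * u⁻¹ = u * x * u⁻¹ * (u * y * u⁻¹); group))) hinv)
    ⟨a, mem_centralizer_singleton_iff.mpr ha⟩
  exact congrArg Subtype.val h

end Four

end CfsgLib.TwoTimesAlt.A4
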